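import Mathlib.AlgebraicGeometry.Morphisms.Flat
import Mathlib.AlgebraicGeometry.IdealSheaf.Subscheme
import Mathlib.AlgebraicGeometry.Morphisms.QuasiCompact

/-!
A flat base change of a quasi-compact schematically dominant morphism is schematically dominant.
-/

set_option autoImplicit false
set_option linter.style.haveILetI false
set_option backward.isDefEq.respectTransparency false
set_option backward.isDefEq.respectTransparency.types false
universe u

open CategoryTheory CategoryTheory.Limits AlgebraicGeometry TensorProduct TopologicalSpace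

namespace Groth.L24.GrpdField

theorem ker_snd_eq_bot {X Y Y' P : Scheme.{u}} {f : X ⟶ Y} {b : Y' ⟶ Y} {p : P ⟶ X} {q : P ⟶ Y'}
    (H : IsPullback p q f b) [QuasiCompact f] [Flat b] (hf : f.ker = ⊥) : q.ker = ⊥ := by
  haveI : QuasiCompact q := MorphismProperty.of_isPullback H ‹QuasiCompact f›
  let I := {V : Y'.affineOpens // ∃ U : Y.affineOpens, V.1 ≤ b ⁻¹ᵁ U.1}
  refine Scheme.IdealSheafData.ext_of_iSup_eq_top (fun V : I => V.1) ?_ fun V => ?_
  · refine eq_top_iff.2 fun y _ => ?_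
    obtain ⟨_, ⟨U, hU, rfl⟩, hyU, -⟩ :=
      Y.isBasis_affineOpens.exists_subset_of_mem_open (Set.mem_univ (b y)) isOpen_univ
    obtain ⟨_, ⟨W, hW, rfl⟩, hyW, hWU⟩ :=
      Y'.isBasis_affineOpens.exists_subset_of_mem_open (show y ∈ b ⁻¹ᵁ U from hyU) (b ⁻¹ᵁ U).2
    exact Opens.mem_iSup.2 ⟨⟨⟨W, hW⟩, ⟨U, hU⟩, hWU⟩, hyW⟩
  obtain ⟨⟨V, hV⟩, ⟨U, hU⟩, hVU⟩ := V
  change V ≤ b ⁻¹ᵁ U at hVU
  have hUX : IsCompact ((f ⁻¹ᵁ U : X.Opens) : Set X) := f.isCompact_preimage hU.isCompact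
  have hUY : q ⁻¹ᵁ V = p ⁻¹ᵁ (f ⁻¹ᵁ U) ⊓ q ⁻¹ᵁ V := by
    refine (inf_eq_right.2 fun x hx => ?_).symm
    show (p ≫ f) x ∈ U
    rw [H.w]
    exact hVU hx
  haveI := mono_pushoutSection_of_isCompact_of_flat_right H hVU (le_refl (f ⁻¹ᵁ U)) hUY hU hV hUX
  rw [Scheme.Hom.ker_apply, Scheme.IdealSheafData.ideal_bot, Pi.bot_apply, ← RingHom.injective_iff_ker_eq_bot]
  have e : q.app V = pushout.inr (f.appLE U (f ⁻¹ᵁ U) le_rfl) (b.appLE U V hVU) ≫
      pushoutSection H hVU (le_refl (f ⁻¹ᵁ U)) hUY := by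
    rw [pushout.inr_desc, Scheme.Hom.app_eq_appLE]
  rw [e, CommRingCat.hom_comp, RingHom.coe_comp]
  refine Function.Injective.comp ?_ ?_
  · exact (ConcreteCategory.mono_iff_injective_of_preservesPullback _).1 inferInstance
  have hinj : Function.Injective (f.appLE U (f ⁻¹ᵁ U) le_rfl).hom := by
    rw [← Scheme.Hom.app_eq_appLE, RingHom.injective_iff_ker_eq_bot]
    have := congrArg (fun J => J.ideal ⟨U, hU⟩) hf
    simpa [Scheme.Hom.ker_apply] using this
  have hflat := b.flat_appLE hU hV hVU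
  algebraize [(f.appLE U (f ⁻¹ᵁ U) le_rfl).hom, (b.appLE U V hVU).hom]
  let e' := (CommRingCat.isPushout_tensorProduct Γ(Y, U) Γ(X, f ⁻¹ᵁ U) Γ(Y', V)).isoPushout
  have h1 : Function.Injective (Algebra.TensorProduct.includeRight (R := Γ(Y, U)) (A := Γ(X, f ⁻¹ᵁ U)) (B := Γ(Y', V))) :=
    Algebra.TensorProduct.includeRight_injective hinj
  have h2 : CommRingCat.ofHom (Algebra.TensorProduct.includeRight (R := Γ(Y, U)) (A := Γ(X, f ⁻¹ᵁ U)) (B := Γ(Y', V))).toRingHom ≫ e'.hom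
      = pushout.inr (f.appLE U (f ⁻¹ᵁ U) le_rfl) (b.appLE U V hVU) :=
    IsPushout.inr_isoPushout_hom _
  rw [← h2]
  exact (ConcreteCategory.bijective_of_isIso e'.hom).1.comp h1

end Groth.L24.GrpdField
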