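import Groth.Agent.L24.GrpdField.Closed
import Groth.Agent.L24.GrpdField.KerFlat
import Groth.Agent.L25.GeomRed
import Groth.Agent.L18.KerReduced

/-!
Closed subgroupoids generated by images over a field.
-/

set_option autoImplicit false
set_option linter.style.haveILetI false
set_option backward.isDefEq.respectTransparency false
set_option backward.isDefEq.respectTransparency.types false
universe u

open CategoryTheory CategoryTheory.Limits AlgebraicGeometry TopologicalSpace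

namespace Groth.L24.GrpdField

variable {S : Scheme.{u}} (G : Grpd.GroupoidScheme S)

/-- A monomorphism into the arrows through which the structure maps factor gives a subgroupoid. -/
theorem exists_subgroupoid {P : Scheme.{u}} (ι : P ⟶ G.R) [Mono ι] (eP : G.U ⟶ P) (he : eP ≫ ι = G.e)
    (iP : P ⟶ P) (hi : iP ≫ ι = ι ≫ G.i) (cP : pullback (ι ≫ G.s) (ι ≫ G.t) ⟶ P)
    (hc : cP ≫ ι = pullback.map (ι ≫ G.s) (ι ≫ G.t) G.s G.t ι ι (𝟙 G.U) (Category.comp_id _) (Category.comp_id _) ≫ G.c) :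
    ∃ (G' : Grpd.GroupoidScheme S) (ψ : Grpd.GroupoidScheme.Hom G' G) (e : G'.R ≅ P),
      IsIso ψ.fU ∧ ψ.fR = e.hom ≫ ι := by
  have key : ∀ {T : Scheme.{u}} (α β : T ⟶ P) (w : α ≫ ι ≫ G.s = β ≫ ι ≫ G.t),
      (pullback.lift α β w ≫ cP) ≫ ι = L02.Grpd.mul G (α ≫ ι) (β ≫ ι) (by simp [w]) := by
    intro T α β w
    rw [Category.assoc, hc, L02.Grpd.mul, ← Category.assoc]
    congr 1
    apply pullback.hom_ext <;> simp
  let G' : Grpd.GroupoidScheme S :=
  { U := G.U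
    R := P
    pU := G.pU
    pR := ι ≫ G.pR
    s := ι ≫ G.s
    t := ι ≫ G.t
    e := eP
    i := iP
    c := cP
    s_over := by rw [Category.assoc, G.s_over]
    t_over := by rw [Category.assoc, G.t_over]
    comp_s := fun α β h => by rw [← Category.assoc, key α β h, L02.Grpd.mul_s, Category.assoc]
    comp_t := fun α β h => by rw [← Category.assoc, key α β h, L02.Grpd.mul_t, Category.assoc]
    assoc := fun α β γ h₁ h₂ => by
      rw [← cancel_mono ι]
      refine (key _ _ _).trans (Eq.trans ?_ (key _ _ _).symm)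
      refine (L02.Grpd.mul_congr G (key α β h₁) rfl _ (by simp [h₂])).trans ?_
      refine Eq.trans ?_ (L02.Grpd.mul_congr G rfl (key β γ h₂).symm (by simp [h₁]) _)
      exact L02.Grpd.mul_assoc' G _ _ _ _ _
    e_s := by rw [← Category.assoc, he, G.e_s]
    e_t := by rw [← Category.assoc, he, G.e_t]
    comp_e := fun α => by
      rw [← cancel_mono ι, key]
      exact (L02.Grpd.mul_congr G rfl (by simp [he]) _ (by simp [G.e_t])).trans (G.comp_e (α ≫ ι))
    e_comp := fun α => by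
      rw [← cancel_mono ι, key]
      exact (L02.Grpd.mul_congr G (by simp [he]) rfl _ (by simp [G.e_s])).trans (G.e_comp (α ≫ ι))
    i_s := by rw [← Category.assoc, hi, Category.assoc, G.i_s]
    i_t := by rw [← Category.assoc, hi, Category.assoc, G.i_t]
    comp_i := fun α => by
      rw [← cancel_mono ι, key]
      refine (L02.Grpd.mul_congr G rfl (by simp [hi]) _ (by simp [G.i_t])).trans ((G.comp_i (α ≫ ι)).trans ?_)
      simp [he]
    i_comp := fun α => by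
      rw [← cancel_mono ι, key]
      refine (L02.Grpd.mul_congr G (by simp [hi]) rfl _ (by simp [G.i_s])).trans ((G.i_comp (α ≫ ι)).trans ?_)
      simp [he] }
  exact ⟨G', ⟨𝟙 _, ι, Category.id_comp _, (Category.comp_id _).symm, (Category.comp_id _).symm,
    fun α β h => key α β h⟩, Iso.refl _, show IsIso (𝟙 G.U) from inferInstance, (Category.id_comp ι).symm⟩

/-- A morphism from a reduced scheme with image in a closed immersion factors through it. -/
theorem exists_lift_of_range_subset {T Z X : Scheme.{u}} [IsReduced T] (ι : Z ⟶ X) [IsClosedImmersion ι]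
    (m : T ⟶ X) (h : Set.range m ⊆ Set.range ι) : ∃ l : T ⟶ Z, l ≫ ι = m := by
  haveI : Surjective (pullback.snd ι m) := ⟨fun t => by
    obtain ⟨z, hz⟩ := h ⟨t, rfl⟩
    obtain ⟨w, -, hw⟩ := Scheme.Pullback.exists_preimage_pullback (f := ι) (g := m) z t hz
    exact ⟨w, hw⟩⟩
  haveI : IsIso (pullback.snd ι m) := isIso_of_isClosedImmersion_of_surjective _
  exact ⟨inv (pullback.snd ι m) ≫ pullback.fst ι m, by
    rw [Category.assoc, pullback.condition, IsIso.inv_hom_id_assoc]⟩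

/-- The reduced closed subscheme on the closure of the image is a subgroupoid over a perfect field. -/
theorem exists_reduced_closure {G₁ : Grpd.GroupoidScheme S} {G₂ : Grpd.GroupoidScheme S}
    (f : Grpd.GroupoidScheme.Hom G₁ G₂) [IsIso f.fU] {k : Type u} [Field k] [PerfectField k]
    (eU : G₂.U ≅ Spec (CommRingCat.of k)) :
    ∃ (G' : Grpd.GroupoidScheme S) (ψ : Grpd.GroupoidScheme.Hom G' G₂),
      IsIso ψ.fU ∧ IsClosedImmersion ψ.fR ∧ IsReduced G'.R ∧ Set.range ψ.fR = closure (Set.range f.fR) := by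
  haveI : Subsingleton G₂.U := eU.hom.homeomorph.toEquiv.subsingleton
  haveI : Nonempty G₂.U := ⟨eU.inv (IsLocalRing.closedPoint k)⟩
  haveI : IsIntegral G₂.U := isIntegral_of_isOpenImmersion eU.hom
  let I := Scheme.IdealSheafData.vanishingIdeal (⟨closure (Set.range f.fR), isClosed_closure⟩ : Closeds G₂.R)
  let ι := I.subschemeι
  have hr : Set.range ι = closure (Set.range f.fR) := by
    rw [Scheme.IdealSheafData.range_subschemeι, Scheme.IdealSheafData.coe_support_vanishingIdeal]; rfl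
  haveI : IsReduced I.subscheme := Groth.L18.isReduced_vanishingIdeal_subscheme _
  obtain ⟨eP, heP⟩ := exists_lift_of_range_subset ι G₂.e (by
    rintro _ ⟨u, rfl⟩; rw [hr]; exact subset_closure (e_mem_range f u))
  obtain ⟨iP, hiP⟩ := exists_lift_of_range_subset ι (ι ≫ G₂.i) (by
    rintro _ ⟨z, rfl⟩
    rw [hr, Scheme.Hom.comp_apply]
    exact map_mem_closure G₂.i.continuous (hr.subset ⟨z, rfl⟩) fun r hr => i_mem_range f r hr)
  haveI : IsReduced (pullback (ι ≫ G₂.s) (ι ≫ G₂.t)) := by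
    haveI := Groth.L25.GeomRed.isReduced_pullback ((ι ≫ G₂.s) ≫ eU.hom) ((ι ≫ G₂.t) ≫ eU.hom)
    exact isReduced_of_isOpenImmersion (pullback.map (ι ≫ G₂.s) (ι ≫ G₂.t) ((ι ≫ G₂.s) ≫ eU.hom)
      ((ι ≫ G₂.t) ≫ eU.hom) (𝟙 _) (𝟙 _) eU.hom (by simp) (by simp))
  let m := pullback.map (ι ≫ G₂.s) (ι ≫ G₂.t) G₂.s G₂.t ι ι (𝟙 G₂.U) (Category.comp_id _) (Category.comp_id _)
  obtain ⟨cP, hcP⟩ := exists_lift_of_range_subset ι (m ≫ G₂.c) (by
    rintro _ ⟨z, rfl⟩
    rw [hr, Scheme.Hom.comp_apply]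
    refine c_mem_closure f (m z) (hr.subset ⟨pullback.fst (ι ≫ G₂.s) (ι ≫ G₂.t) z, ?_⟩)
      (hr.subset ⟨pullback.snd (ι ≫ G₂.s) (ι ≫ G₂.t) z, ?_⟩)
    · show (pullback.fst _ _ ≫ ι) z = (m ≫ pullback.fst _ _) z
      rw [pullback.lift_fst]
    · show (pullback.snd _ _ ≫ ι) z = (m ≫ pullback.snd _ _) z
      rw [pullback.lift_snd])
  obtain ⟨G', ψ, e, hU, hR⟩ := exists_subgroupoid G₂ ι eP heP iP hiP cP hcP
  refine ⟨G', ψ, hU, hR ▸ inferInstance, isReduced_of_isOpenImmersion e.hom, ?_⟩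
  rw [hR, ← hr]
  exact (Scheme.Hom.homeomorph e.hom).surjective.range_comp ι

theorem ker_toImage {X Y : Scheme.{u}} (f : X ⟶ Y) [QuasiCompact f] : f.toImage.ker = ⊥ := by
  haveI : QuasiCompact f.toImage := by
    haveI : QuasiCompact (f.toImage ≫ f.imageι) := by rw [Scheme.Hom.toImage_imageι]; assumption
    exact QuasiCompact.of_comp f.toImage f.imageι
  refine Scheme.IdealSheafData.ext_of_iSup_eq_top
    (fun U : Y.affineOpens => (⟨f.imageι ⁻¹ᵁ U.1, U.2.preimage f.imageι⟩ : f.image.affineOpens)) ?_ fun U => ?_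
  · rw [← Scheme.Hom.preimage_iSup, iSup_affineOpens_eq_top, Scheme.Hom.preimage_top]
  · rw [Scheme.Hom.ker_apply, Scheme.IdealSheafData.ideal_bot, Pi.bot_apply, ← RingHom.injective_iff_ker_eq_bot]
    exact f.toImage_app_injective U

theorem ker_comp_eq_of_ker_eq_bot {X Y Z : Scheme.{u}} (q : X ⟶ Y) (g : Y ⟶ Z) (h : q.ker = ⊥) :
    (q ≫ g).ker = g.ker := by
  rw [← Scheme.IdealSheafData.map_ker, h, Scheme.IdealSheafData.map_bot]

/-- The scheme-theoretic image is a subgroupoid. -/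
theorem exists_image {G₁ : Grpd.GroupoidScheme S} {G₂ : Grpd.GroupoidScheme S}
    (f : Grpd.GroupoidScheme.Hom G₁ G₂) [IsIso f.fU] [QuasiCompact f.fR] [Subsingleton G₂.U] [IsIntegral G₂.U] :
    ∃ (G' : Grpd.GroupoidScheme S) (ψ : Grpd.GroupoidScheme.Hom G' G₂),
      IsIso ψ.fU ∧ IsClosedImmersion ψ.fR ∧ ψ.fR.ker = f.fR.ker := by
  let ι := f.fR.imageι
  let q := f.fR.toImage
  have hq : q ≫ ι = f.fR := f.fR.toImage_imageι
  have hqk : q.ker = ⊥ := ker_toImage _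
  have hι : ι.ker = f.fR.ker := Scheme.IdealSheafData.ker_subschemeι _
  haveI : QuasiCompact q := by
    haveI : QuasiCompact (q ≫ ι) := hq.symm ▸ ‹QuasiCompact f.fR›
    exact QuasiCompact.of_comp q ι
  have fac : ∀ {T T' : Scheme.{u}} (v : T' ⟶ T) (m : T ⟶ G₂.R) (l : T' ⟶ G₁.R), v.ker = ⊥ → v ≫ m = l ≫ f.fR →
      ι.ker ≤ m.ker := by
    intro T T' v m l hv hl
    rw [← ker_comp_eq_of_ker_eq_bot v m hv, hl, hι]
    exact Scheme.Hom.le_ker_comp _ _
  have he : ι.ker ≤ G₂.e.ker := by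
    refine fac (𝟙 _) G₂.e (inv f.fU ≫ G₁.e) (Scheme.Hom.ker_eq_bot _) ?_
    rw [Category.assoc, e_fR, IsIso.inv_hom_id_assoc, Category.id_comp]
  have hi : ι.ker ≤ (ι ≫ G₂.i).ker := fac q _ G₁.i hqk (by rw [← Category.assoc, hq, i_fR])
  let m := pullback.map (ι ≫ G₂.s) (ι ≫ G₂.t) G₂.s G₂.t ι ι (𝟙 G₂.U) (Category.comp_id _) (Category.comp_id _)
  have hc : ι.ker ≤ (m ≫ G₂.c).ker := by
    let v₁ := pullback.map (q ≫ ι ≫ G₂.s) (ι ≫ G₂.t) (ι ≫ G₂.s) (ι ≫ G₂.t) q (𝟙 _) (𝟙 _) (by simp) (by simp)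
    let v₂ := pullback.map (q ≫ ι ≫ G₂.s) (q ≫ ι ≫ G₂.t) (q ≫ ι ≫ G₂.s) (ι ≫ G₂.t) (𝟙 _) q (𝟙 _) (by simp) (by simp)
    have sq₁ : IsPullback v₁ (pullback.fst (q ≫ ι ≫ G₂.s) (ι ≫ G₂.t)) (pullback.fst (ι ≫ G₂.s) (ι ≫ G₂.t)) q := by
      refine (IsPullback.of_right ?_ (pullback.lift_fst _ _ _) (IsPullback.of_hasPullback (ι ≫ G₂.s) (ι ≫ G₂.t)).flip)
      rw [pullback.lift_snd, Category.comp_id]
      exact (IsPullback.of_hasPullback (q ≫ ι ≫ G₂.s) (ι ≫ G₂.t)).flip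
    have sq₂ : IsPullback v₂ (pullback.snd (q ≫ ι ≫ G₂.s) (q ≫ ι ≫ G₂.t)) (pullback.snd (q ≫ ι ≫ G₂.s) (ι ≫ G₂.t)) q := by
      refine (IsPullback.of_right ?_ (pullback.lift_snd _ _ _) (IsPullback.of_hasPullback (q ≫ ι ≫ G₂.s) (ι ≫ G₂.t)))
      rw [pullback.lift_fst, Category.comp_id]
      exact IsPullback.of_hasPullback (q ≫ ι ≫ G₂.s) (q ≫ ι ≫ G₂.t)
    haveI : Flat (pullback.fst (ι ≫ G₂.s) (ι ≫ G₂.t)) := inferInstance
    have k₁ : v₁.ker = ⊥ := ker_snd_eq_bot sq₁.flip hqk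
    have k₂ : v₂.ker = ⊥ := ker_snd_eq_bot sq₂.flip hqk
    let w : pullback (q ≫ ι ≫ G₂.s) (q ≫ ι ≫ G₂.t) ⟶ pullback G₁.s G₁.t :=
      pullback.map _ _ _ _ (𝟙 _) (𝟙 _) (inv f.fU)
        (by simp [reassoc_of% hq, reassoc_of% f.comm_s])
        (by simp [reassoc_of% hq, reassoc_of% f.comm_t])
    refine fac (v₂ ≫ v₁) _ (w ≫ G₁.c) (by rw [ker_comp_eq_of_ker_eq_bot _ _ k₂, k₁]) ?_
    conv_rhs => rw [Category.assoc, ← L02.Grpd.c_eq G₁, fR_mul, L02.Grpd.comp_mul]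
    conv_lhs => rw [← L02.Grpd.c_eq G₂, L02.Grpd.comp_mul, L02.Grpd.comp_mul]
    refine L02.Grpd.mul_congr G₂ ?_ ?_ _ _
    · simp [v₁, v₂, w, m, ← hq]
    · simp [v₁, v₂, w, m, ← hq]
  obtain ⟨G', ψ, e, hU, hR⟩ := exists_subgroupoid G₂ ι (IsClosedImmersion.lift ι _ he)
    (IsClosedImmersion.lift_fac ι _ he) (IsClosedImmersion.lift ι _ hi) (IsClosedImmersion.lift_fac ι _ hi)
    (IsClosedImmersion.lift ι _ hc) (IsClosedImmersion.lift_fac ι _ hc)
  refine ⟨G', ψ, hU, hR ▸ inferInstance, ?_⟩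
  rw [hR, ker_comp_eq_of_ker_eq_bot _ _ (Scheme.Hom.ker_eq_bot _), hι]

end Groth.L24.GrpdField
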