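import Groth.Agent.L19.OmegaSh.GroupoidScheme
import Groth.Agent.L19.OmegaSh.GroupScheme
import Groth.Agent.L19.OmegaSh.OmAff
import Groth.Agent.L25.DerReduced
import Mathlib.RingTheory.Kaehler.TensorProduct
import Mathlib.RingTheory.Jacobson.Ring
import Mathlib.FieldTheory.IsAlgClosed.AlgebraicClosure
import Mathlib.RingTheory.FiniteStability

/-!
Groupoids over a field of characteristic zero are reduced.
-/

set_option autoImplicit false
set_option linter.style.haveILetI false
set_option backward.isDefEq.respectTransparency false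
set_option backward.isDefEq.respectTransparency.types false
universe u

open CategoryTheory CategoryTheory.Limits AlgebraicGeometry TensorProduct

namespace Groth.L24.GrpdField

theorem isReduced_of_projective_kaehler_of_isAlgClosed {K A : Type u} [Field K] [CharZero K] [IsAlgClosed K]
    [CommRing A] [Algebra K A] [Algebra.FiniteType K A] [Module.Projective A Ω[A⁄K]] : _root_.IsReduced A := by
  haveI : IsNoetherianRing A := Algebra.FiniteType.isNoetherianRing K A
  refine Groth.L25.DerReduced.isReduced (k := K) (fun m hm => ?_) fun χ w _ hw => ?_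
  · letI := Ideal.Quotient.field m
    haveI : Algebra.FiniteType K (A ⧸ m) :=
      Algebra.FiniteType.of_surjective (Ideal.Quotient.mkₐ K m) Ideal.Quotient.mk_surjective
    haveI : Module.Finite K (A ⧸ m) := finite_of_finite_type_of_isJacobsonRing K (A ⧸ m)
    let e := AlgEquiv.ofBijective (Algebra.ofId K (A ⧸ m)) IsAlgClosed.algebraMap_bijective_of_isIntegral
    refine ⟨e.symm.toAlgHom.comp (Ideal.Quotient.mkₐ K m), fun a => ?_⟩
    rw [← Ideal.Quotient.eq, Ideal.Quotient.mk_algebraMap]
    exact (e.apply_symm_apply _).symm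
  · letI : Module A K := Module.compHom K χ.toRingHom
    haveI : IsScalarTower K A K := ⟨fun c a b => by
      show χ (c • a) • b = c • (χ a • b)
      rw [map_smul, smul_assoc]⟩
    let E : Derivation K A K := Derivation.mk' w fun a b => by
      show w (a * b) = χ a • w b + χ b • w a
      rw [hw, smul_eq_mul, smul_eq_mul]
    let π : A →ₗ[A] K :=
      { toFun := χ
        map_add' := map_add χ
        map_smul' := fun r a => by
          show χ (r * a) = χ r • χ a
          rw [map_mul, smul_eq_mul] }
    obtain ⟨l, hl⟩ := Module.projective_lifting_property π E.liftKaehlerDifferential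
      (fun c => ⟨algebraMap K A c, χ.commutes c⟩)
    refine ⟨l.compDer (KaehlerDifferential.D K A), fun a => ?_⟩
    show π (l (KaehlerDifferential.D K A a)) = w a
    rw [← LinearMap.comp_apply, hl]
    exact Derivation.liftKaehlerDifferential_comp_D E a

theorem isReduced_of_projective_kaehler {k A : Type u} [Field k] [CharZero k] [CommRing A] [Algebra k A]
    [Algebra.FiniteType k A] [Module.Projective A Ω[A⁄k]] : _root_.IsReduced A := by
  let K := AlgebraicClosure k
  haveI : CharZero K := charZero_of_injective_algebraMap (algebraMap k K).injective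
  let B := K ⊗[k] A
  letI : Algebra A B := Algebra.TensorProduct.rightAlgebra
  haveI : Module.Projective B Ω[B⁄K] :=
    Module.Projective.of_equiv (KaehlerDifferential.tensorKaehlerEquiv k K A B)
  haveI : _root_.IsReduced B := isReduced_of_projective_kaehler_of_isAlgClosed (K := K)
  exact isReduced_of_injective (Algebra.TensorProduct.includeRight : A →ₐ[k] B)
    (Algebra.TensorProduct.includeRight_injective (algebraMap k K).injective)

variable {S : Scheme.{u}} (G : Grpd.GroupoidScheme S) {k : Type u} [Field k]
  (eU : G.U ≅ Spec (CommRingCat.of k))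

include eU in
theorem isReduced_R [CharZero k] [LocallyOfFiniteType G.t] : IsReduced G.R := by
  haveI : IsAffine G.U := IsAffine.of_isIso eU.hom
  haveI : IsLocallyNoetherian G.U := LocallyOfFiniteType.isLocallyNoetherian eU.hom
  haveI : IsLocallyNoetherian G.R := LocallyOfFiniteType.isLocallyNoetherian G.t
  obtain ⟨eΩ⟩ := Groth.L19.OmegaSh.groupoid_omega_iso G
  obtain ⟨I, ⟨eI⟩⟩ := Groth.L19.OmegaSh.exists_iso_free_pullback G.s eU (Omega.conormal G.e)
  apply +allowSynthFailures @IsReduced.of_openCover (𝒰 := G.R.affineOpenCover.openCover)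
  intro i
  let A := G.R.affineOpenCover.X i
  let j : Spec (CommRingCat.of A) ⟶ G.R := G.R.affineOpenCover.f i
  haveI : IsOpenImmersion j := G.R.affineOpenCover.map_prop i
  letI : Algebra k A := (Spec.preimage (j ≫ G.t ≫ eU.hom)).hom.toAlgebra
  have hj : j ≫ G.t ≫ eU.hom = Spec.map (CommRingCat.ofHom (algebraMap k A)) := (Spec.map_preimage _).symm
  have hjk : Spec.map (CommRingCat.ofHom (algebraMap k A)) ≫ eU.inv = j ≫ G.t := by
    rw [← hj, Category.assoc, Category.assoc, Iso.hom_inv_id, Category.comp_id]
  haveI : Algebra.FiniteType k A := by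
    have h : LocallyOfFiniteType (j ≫ G.t ≫ eU.hom) := inferInstance
    rw [hj, HasRingHomProperty.Spec_iff (P := @LocallyOfFiniteType)] at h
    exact h
  obtain ⟨e, -⟩ := Groth.L19.OmegaSh.exists_chart (Groth.L19.OmegaSh.isUniversal_dOmega (f := G.t))
    (R := k) (A := A) j eU.inv hjk
  let M : ModuleCat.{u} (CommRingCat.of A) := ModuleCat.of A Ω[A⁄k]
  let e' : tilde M ≅ tilde (ModuleCat.of (CommRingCat.of A) (I →₀ A)) :=
    e.symm ≪≫ (Scheme.Modules.restrictFunctor j).mapIso (eΩ.symm ≪≫ eI) ≪≫
      (Scheme.Modules.restrictFunctorIsoPullback j).app _ ≪≫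
      PreservesCoproduct.iso (Scheme.Modules.pullback j) (fun _ : I => Coh.structureModule G.R) ≪≫
      Sigma.mapIso (fun _ => Groth.L29.LocFree.pullbackUnitIso j) ≪≫ (tildeFinsupp (R := CommRingCat.of A) I).symm
  let em := (tilde.functor (CommRingCat.of A)).preimageIso e'
  haveI : Module.Projective A Ω[A⁄k] := Module.Projective.of_equiv em.symm.toLinearEquiv
  haveI : _root_.IsReduced A := isReduced_of_projective_kaehler (k := k)
  exact inferInstanceAs (IsReduced (Spec (CommRingCat.of A)))

end Groth.L24.GrpdField
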