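import Groth.Agent.L24.GrpdField.Pair
import Groth.Agent.L02.Grpd.Algebra

/-!
The image of a morphism of groupoid schemes over a field.
-/

set_option autoImplicit false
set_option linter.style.haveILetI false
set_option backward.isDefEq.respectTransparency false
set_option backward.isDefEq.respectTransparency.types false
universe u

open CategoryTheory CategoryTheory.Limits AlgebraicGeometry
open L02.Grpd (mul mul_congr comp_mul c_eq)

namespace Groth.L24.GrpdField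

variable {S : Scheme.{u}} {G₁ G₂ : Grpd.GroupoidScheme S} (f : Grpd.GroupoidScheme.Hom G₁ G₂)

theorem fR_mul {T : Scheme.{u}} (α β : T ⟶ G₁.R) (h : α ≫ G₁.s = β ≫ G₁.t) :
    mul G₁ α β h ≫ f.fR = mul G₂ (α ≫ f.fR) (β ≫ f.fR)
      (by rw [Category.assoc, Category.assoc, f.comm_s, f.comm_t, ← Category.assoc, ← Category.assoc, h]) :=
  f.comm_c α β h

theorem e_fR : G₁.e ≫ f.fR = f.fU ≫ G₂.e := by
  have hs : (G₁.e ≫ f.fR) ≫ G₂.s = f.fU := by
    rw [Category.assoc, f.comm_s, ← Category.assoc, G₁.e_s, Category.id_comp]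
  have ht : (G₁.e ≫ f.fR) ≫ G₂.t = f.fU := by
    rw [Category.assoc, f.comm_t, ← Category.assoc, G₁.e_t, Category.id_comp]
  have hid : mul G₂ (G₁.e ≫ f.fR) (G₁.e ≫ f.fR) (hs.trans ht.symm) = G₁.e ≫ f.fR := by
    have h1 : G₁.e ≫ G₁.s = G₁.e ≫ G₁.t := G₁.e_s.trans G₁.e_t.symm
    rw [← fR_mul f G₁.e G₁.e h1]
    refine congrArg (· ≫ f.fR) (Eq.trans (mul_congr G₁ rfl ?_ h1 ?_) (G₁.comp_e G₁.e))
    · simp [reassoc_of% G₁.e_s]
    · simp [G₁.e_s, G₁.e_t, reassoc_of% G₁.e_s]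
  have hc := L02.Grpd.cancel_right G₂ (G₁.e ≫ f.fR) (G₁.e ≫ f.fR) (hs.trans ht.symm)
  refine hc.symm.trans ((mul_congr G₂ hid rfl _ ?_).trans ((G₂.comp_i (G₁.e ≫ f.fR)).trans ?_))
  · rw [Category.assoc _ G₂.i, G₂.i_t]
  · rw [← Category.assoc, ht]

theorem i_fR : G₁.i ≫ f.fR = f.fR ≫ G₂.i := by
  have h1 : G₁.i ≫ G₁.s = 𝟙 G₁.R ≫ G₁.t := by rw [G₁.i_s, Category.id_comp]
  have h2 : (G₁.i ≫ f.fR) ≫ G₂.s = f.fR ≫ G₂.t := by
    rw [Category.assoc, f.comm_s, f.comm_t, ← Category.assoc, G₁.i_s]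
  have hm : mul G₂ (G₁.i ≫ f.fR) f.fR h2 = f.fR ≫ G₂.s ≫ G₂.e := by
    refine (mul_congr G₂ rfl (Category.id_comp f.fR).symm h2 (by rw [Category.id_comp]; exact h2)).trans ?_
    rw [← fR_mul f G₁.i (𝟙 _) h1]
    have := G₁.i_comp (𝟙 G₁.R)
    refine Eq.trans (congrArg (· ≫ f.fR) (Eq.trans (mul_congr G₁ (Category.id_comp _).symm rfl h1
      (by simpa using G₁.i_s)) this)) ?_
    simp only [Category.id_comp, Category.assoc, e_fR]
    rw [← Category.assoc G₁.s, ← f.comm_s, Category.assoc]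
  have hc := L02.Grpd.cancel_right G₂ (G₁.i ≫ f.fR) f.fR h2
  refine hc.symm.trans ((mul_congr G₂ hm rfl _ ?_).trans ?_)
  · simp [G₂.e_s, G₂.i_t]
  · have := G₂.e_comp (f.fR ≫ G₂.i)
    refine Eq.trans (mul_congr G₂ ?_ rfl _ ?_) this
    · simp [reassoc_of% G₂.i_t]
    · simp [G₂.e_s]

variable [IsIso f.fU]

/-- Composites of points of the image lie in the image. -/
theorem c_mem_range (q : ↥(pullback G₂.s G₂.t)) (h₁ : pullback.fst G₂.s G₂.t q ∈ Set.range f.fR)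
    (h₂ : pullback.snd G₂.s G₂.t q ∈ Set.range f.fR) : G₂.c q ∈ Set.range f.fR := by
  set m := pullback.map G₁.s G₁.t G₂.s G₂.t f.fR f.fR f.fU f.comm_s.symm f.comm_t.symm
  obtain ⟨q', rfl⟩ : q ∈ Set.range m := by
    rw [Scheme.Pullback.range_map]; exact ⟨h₁, h₂⟩
  refine ⟨G₁.c q', ?_⟩
  have : G₁.c ≫ f.fR = m ≫ G₂.c := by
    rw [← c_eq G₁, fR_mul, ← c_eq G₂, comp_mul]
    exact mul_congr G₂ (pullback.lift_fst _ _ _).symm (pullback.lift_snd _ _ _).symm _ _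
  show (G₁.c ≫ f.fR) q' = _
  rw [this]; rfl

omit [IsIso f.fU] in
theorem i_mem_range (r : G₂.R) (h : r ∈ Set.range f.fR) : G₂.i r ∈ Set.range f.fR := by
  obtain ⟨a, rfl⟩ := h
  exact ⟨G₁.i a, by show (G₁.i ≫ f.fR) a = _; rw [i_fR]; rfl⟩

theorem e_mem_range (u : G₂.U) : G₂.e u ∈ Set.range f.fR := by
  refine ⟨G₁.e ((inv f.fU) u), ?_⟩
  show (inv f.fU ≫ G₁.e ≫ f.fR) u = _
  rw [e_fR, IsIso.inv_hom_id_assoc]

variable [IsIntegral G₂.U] [Subsingleton G₂.U]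

/-- The closure of the image is stable under composition. -/
theorem c_mem_closure (p : ↥(pullback G₂.s G₂.t)) (h₁ : pullback.fst G₂.s G₂.t p ∈ closure (Set.range f.fR))
    (h₂ : pullback.snd G₂.s G₂.t p ∈ closure (Set.range f.fR)) : G₂.c p ∈ closure (Set.range f.fR) :=
  map_mem_closure G₂.c.continuous (mem_closure_pair G₂.s G₂.t _ _ p h₁ h₂)
    fun q hq => c_mem_range f q hq.1 hq.2

/-- A locally closed image is closed. -/
theorem isClosed_range (hlc : IsLocallyClosed (Set.range f.fR)) : IsClosed (Set.range f.fR) := by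
  set I := Set.range f.fR
  obtain ⟨O, hO, hOI⟩ : ∃ O : Set G₂.R, IsOpen O ∧ O ∩ closure I = I := by
    obtain ⟨A, B, hA, hB, hAB⟩ := hlc
    refine ⟨A, hA, Set.Subset.antisymm (fun x hx => ?_) fun x hx => ⟨(hAB ▸ hx : x ∈ A ∩ B).1, subset_closure hx⟩⟩
    rw [hAB]
    exact ⟨hx.1, closure_minimal (hAB.trans_subset Set.inter_subset_right) hB hx.2⟩
  refine closure_subset_iff_isClosed.mp fun r hr => ?_
  -- (a, b) ↦ a ∘ b⁻¹
  set φ' : pullback G₂.s G₂.s ⟶ pullback G₂.s G₂.t :=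
    pullback.lift (pullback.fst _ _) (pullback.snd _ _ ≫ G₂.i)
      (by rw [Category.assoc, G₂.i_t, pullback.condition])
  set Δ : G₂.R ⟶ pullback G₂.s G₂.s := pullback.lift (𝟙 _) (𝟙 _) rfl
  have hΔ : (φ' ≫ G₂.c) (Δ r) ∈ O := by
    have he : (Δ ≫ φ') ≫ G₂.c = G₂.t ≫ G₂.e := by
      rw [← c_eq G₂, comp_mul]
      refine Eq.trans (mul_congr G₂ ?_ ?_ _ (by simp [G₂.i_t])) ((G₂.comp_i (𝟙 G₂.R)).trans (Category.id_comp _))
      · simp [φ', Δ]
      · simp [φ', Δ]; exact Category.id_comp _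
    have : (φ' ≫ G₂.c) (Δ r) = G₂.e (G₂.t r) := by
      show ((Δ ≫ φ') ≫ G₂.c) r = _
      rw [he]; rfl
    rw [this]
    exact (hOI.ge (e_mem_range f _)).1
  obtain ⟨q, hqN, hq1, hq2⟩ := exists_mem_fibre G₂.s G₂.s r I ((φ' ≫ G₂.c) ⁻¹' O)
    (hO.preimage (φ' ≫ G₂.c).continuous) (Δ r) hΔ
    (by show (Δ ≫ pullback.fst _ _) r = r; rw [pullback.lift_fst]; rfl)
    (by show (Δ ≫ pullback.snd _ _) r ∈ closure I; rw [pullback.lift_snd]; exact hr)
  have hf : pullback.fst G₂.s G₂.t (φ' q) = r := by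
    show (φ' ≫ pullback.fst _ _) q = r; rw [pullback.lift_fst, hq1]
  have hs : pullback.snd G₂.s G₂.t (φ' q) ∈ I := by
    show (φ' ≫ pullback.snd _ _) q ∈ I; rw [pullback.lift_snd]; exact i_mem_range f _ hq2
  have hφI : (φ' ≫ G₂.c) q ∈ I :=
    hOI.subset ⟨hqN, c_mem_closure f (φ' q) (by rw [hf]; exact hr) (subset_closure hs)⟩
  -- a = (a ∘ b⁻¹) ∘ b
  set ψ : pullback G₂.s G₂.s ⟶ pullback G₂.s G₂.t :=
    pullback.lift (φ' ≫ G₂.c) (pullback.snd _ _)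
      (by rw [← c_eq G₂, comp_mul, L02.Grpd.mul_s]; simp [φ', G₂.i_s])
  have hψ : ψ ≫ G₂.c = pullback.fst G₂.s G₂.s := by
    rw [← c_eq G₂, comp_mul]
    refine Eq.trans (mul_congr G₂ ?_ (pullback.lift_snd _ _ _) _ (by simp [G₂.i_s]))
      (L02.Grpd.cancel_right' G₂ _ _ pullback.condition)
    rw [pullback.lift_fst, ← c_eq G₂, comp_mul]
    exact mul_congr G₂ (pullback.lift_fst _ _ _) (pullback.lift_snd _ _ _) _ _
  have := c_mem_range f (ψ q) (by show (ψ ≫ pullback.fst _ _) q ∈ I; rw [pullback.lift_fst]; exact hφI)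
    (by show (ψ ≫ pullback.snd _ _) q ∈ I; rw [pullback.lift_snd]; exact hq2)
  have h' : G₂.c (ψ q) = r := by show (ψ ≫ G₂.c) q = r; rw [hψ, hq1]
  rwa [h'] at this

theorem closure_pr02 {S : Scheme.{u}} (G : Grpd.GroupoidScheme S) [IsIntegral G.U] [Subsingleton G.U]
    (pr02 : pullback (pullback.snd G.pU G.pU) (pullback.fst G.pU G.pU) ⟶ pullback G.pU G.pU)
    (h0 : pr02 ≫ pullback.fst G.pU G.pU = pullback.fst (pullback.snd G.pU G.pU) (pullback.fst G.pU G.pU) ≫ pullback.fst G.pU G.pU)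
    (h1 : pr02 ≫ pullback.snd G.pU G.pU = pullback.snd (pullback.snd G.pU G.pU) (pullback.fst G.pU G.pU) ≫ pullback.snd G.pU G.pU)
    (p : ↥(pullback (pullback.snd G.pU G.pU) (pullback.fst G.pU G.pU)))
    (h₁ : pullback.fst (pullback.snd G.pU G.pU) (pullback.fst G.pU G.pU) p ∈ closure (Set.range G.j))
    (h₂ : pullback.snd (pullback.snd G.pU G.pU) (pullback.fst G.pU G.pU) p ∈ closure (Set.range G.j)) :
    pr02 p ∈ closure (Set.range G.j) := by
  refine map_mem_closure pr02.continuous (mem_closure_pair _ _ _ _ p h₁ h₂) fun q hq => ?_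
  set m := pullback.map G.s G.t (pullback.snd G.pU G.pU) (pullback.fst G.pU G.pU) G.j G.j (𝟙 G.U)
    (by simp [Grpd.GroupoidScheme.j]) (by simp [Grpd.GroupoidScheme.j])
  obtain ⟨q', rfl⟩ : q ∈ Set.range m := by rw [Scheme.Pullback.range_map]; exact hq
  refine ⟨G.c q', ?_⟩
  have : G.c ≫ G.j = m ≫ pr02 := by
    apply pullback.hom_ext
    · rw [Category.assoc, Category.assoc, h0, ← c_eq G]
      simp [m, Grpd.GroupoidScheme.j]
    · rw [Category.assoc, Category.assoc, h1, ← c_eq G]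
      simp [m, Grpd.GroupoidScheme.j]
  show (G.c ≫ G.j) q' = _
  rw [this]; rfl

end Groth.L24.GrpdField
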