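import Groth.Agent.L24.GrpdField.Point
import Groth.Agent.L02.Grpd.Translate
import Groth.Agent.L25.GeomIrred
import Groth.Agent.L22.GeomConn.Irred

/-!
The component through the identity of a groupoid over a field.
-/

set_option autoImplicit false
set_option linter.style.haveILetI false
set_option backward.isDefEq.respectTransparency false
set_option backward.isDefEq.respectTransparency.types false
universe u

open CategoryTheory CategoryTheory.Limits AlgebraicGeometry TopologicalSpace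
open Groth.L22.GeomConn (IsMaxPt exists_isMaxPt_specializes closure_mem_irreducibleComponents isMaxPt_genericPoint)

namespace Groth.L24.GrpdField

variable {S : Scheme.{u}} (G : Grpd.GroupoidScheme S) {k : Type u} [Field k]
  (eU : G.U ≅ Spec (CommRingCat.of k))

theorem flat_specMap (K : Type u) [Field K] [Algebra k K] :
    Flat (Spec.map (CommRingCat.ofHom (algebraMap k K))) := by
  rw [Flat.SpecMap_iff]; exact RingHom.flat_algebraMap_iff.mpr inferInstance

include eU in
/-- Over an algebraically closed field only one component passes through the identity. -/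
theorem unique_maxPt_identity [IsAlgClosed k] (u : G.U) {η₁ η₂ : G.R} (h₁ : IsMaxPt η₁) (h₂ : IsMaxPt η₂)
    (hs₁ : η₁ ⤳ G.e u) (hs₂ : η₂ ⤳ G.e u) : η₁ = η₂ := by
  haveI : Subsingleton G.U := eU.hom.homeomorph.toEquiv.subsingleton
  let Z := fun η : G.R => (Scheme.IdealSheafData.vanishingIdeal (⟨closure {η}, isClosed_closure⟩ : Closeds G.R))
  have hr : ∀ η, Set.range (Z η).subschemeι = closure {η} := fun η => by
    rw [Scheme.IdealSheafData.range_subschemeι, Scheme.IdealSheafData.coe_support_vanishingIdeal]; rfl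
  have hirr : ∀ η, IrreducibleSpace ↥(Z η).subscheme := fun η => by
    have h : IsIrreducible (Set.range (Z η).subschemeι) := hr η ▸ isIrreducible_singleton.closure
    haveI : IrreducibleSpace (Set.range (Z η).subschemeι) := (isIrreducible_iff_irreducibleSpace).1 h
    exact ((Z η).subschemeι.isEmbedding.toHomeomorph.irreducibleSpace_iff).2 inferInstance
  haveI := hirr η₁; haveI := hirr η₂
  let a := (Z η₁).subschemeι
  let b := (Z η₂).subschemeι
  haveI := Groth.L25.GeomIrred.geometricallyIrreducible_of_isAlgClosed (a ≫ G.s ≫ eU.hom)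
  haveI : IrreducibleSpace ↥(pullback (a ≫ G.s ≫ eU.hom) (b ≫ G.t ≫ eU.hom)) := inferInstance
  let κ : pullback (a ≫ G.s) (b ≫ G.t) ⟶ pullback (a ≫ G.s ≫ eU.hom) (b ≫ G.t ≫ eU.hom) :=
    pullback.map _ _ _ _ (𝟙 _) (𝟙 _) eU.hom (by simp) (by simp)
  haveI : IrreducibleSpace ↥(pullback (a ≫ G.s) (b ≫ G.t)) :=
    κ.homeomorph.irreducibleSpace_iff.2 inferInstance
  let m : pullback (a ≫ G.s) (b ≫ G.t) ⟶ pullback G.s G.t :=
    pullback.map _ _ _ _ a b (𝟙 _) (by simp) (by simp)
  have hW : IsIrreducible (closure (Set.range (m ≫ G.c))) := by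
    rw [← Set.image_univ]
    exact ((IrreducibleSpace.isIrreducible_univ _).image _ (m ≫ G.c).continuous.continuousOn).closure
  have hm : Set.range m = pullback.fst G.s G.t ⁻¹' closure {η₁} ∩ pullback.snd G.s G.t ⁻¹' closure {η₂} := by
    rw [Scheme.Pullback.range_map, hr, hr]
  have key : ∀ x : ↥(pullback G.s G.t), pullback.fst G.s G.t x ∈ closure {η₁} →
      pullback.snd G.s G.t x ∈ closure {η₂} → G.c x ∈ closure (Set.range (m ≫ G.c)) := by
    intro x hx₁ hx₂
    obtain ⟨y, hy⟩ : x ∈ Set.range m := hm ▸ ⟨hx₁, hx₂⟩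
    exact subset_closure ⟨y, by rw [Scheme.Hom.comp_apply, hy]⟩
  have he : ∀ v, G.e v = G.e u := fun v => congrArg _ (Subsingleton.elim _ _)
  have m₁ : η₁ ∈ closure (Set.range (m ≫ G.c)) := by
    let σ : G.R ⟶ pullback G.s G.t := pullback.lift (𝟙 _) (G.s ≫ G.e) (by rw [Category.assoc, G.e_t, Category.comp_id, Category.id_comp])
    have hσ : σ ≫ G.c = 𝟙 _ := by
      have := G.comp_e (𝟙 G.R); simpa [σ] using this
    have := key (σ η₁) (by show (σ ≫ pullback.fst _ _) η₁ ∈ _; rw [pullback.lift_fst]; exact subset_closure rfl)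
      (by show (σ ≫ pullback.snd _ _) η₁ ∈ _; rw [pullback.lift_snd, Scheme.Hom.comp_apply, he]; exact hs₂.mem_closure)
    rwa [← Scheme.Hom.comp_apply, hσ] at this
  have m₂ : η₂ ∈ closure (Set.range (m ≫ G.c)) := by
    let σ : G.R ⟶ pullback G.s G.t := pullback.lift (G.t ≫ G.e) (𝟙 _) (by rw [Category.assoc, G.e_s, Category.comp_id, Category.id_comp])
    have hσ : σ ≫ G.c = 𝟙 _ := by
      have := G.e_comp (𝟙 G.R); simpa [σ] using this
    have := key (σ η₂) (by show (σ ≫ pullback.fst _ _) η₂ ∈ _; rw [pullback.lift_fst, Scheme.Hom.comp_apply, he]; exact hs₁.mem_closure)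
      (by show (σ ≫ pullback.snd _ _) η₂ ∈ _; rw [pullback.lift_snd]; exact subset_closure rfl)
    rwa [← Scheme.Hom.comp_apply, hσ] at this
  have hle := (closure_mem_irreducibleComponents h₁).2 hW
    (closure_minimal (Set.singleton_subset_iff.2 m₁) isClosed_closure)
  exact h₂ η₁ (specializes_iff_mem_closure.2 (hle m₂))

include eU in
/-- Only one component passes through each point. -/
theorem unique_maxPt (r : G.R) {η₁ η₂ : G.R} (h₁ : IsMaxPt η₁) (h₂ : IsMaxPt η₂)
    (hs₁ : η₁ ⤳ r) (hs₂ : η₂ ⤳ r) : η₁ = η₂ := by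
  obtain ⟨K, iK, iA, iAlg, r', hr', hsIso, htIso⟩ := exists_point G eU r
  letI := iK; letI := iA; letI := iAlg
  let g := Spec.map (CommRingCat.ofHom (algebraMap k K)) ≫ eU.inv
  haveI := flat_specMap (k := k) K
  haveI : Flat g := inferInstance
  haveI : Flat (pA G g) := by
    rw [pA]; infer_instance
  let G' := pullGrpd G g
  obtain ⟨φ, hφ⟩ := L02.Grpd.exists_auto_moving_identity G' (Iso.refl _) r' hsIso htIso
  have hinj : ∀ {a b : ↥(pR' G g)}, IsMaxPt a → IsMaxPt b → a ⤳ r' → b ⤳ r' → a = b := by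
    intro a b ha hb hsa hsb
    have hm : ∀ {a : ↥(pR' G g)}, IsMaxPt a → IsMaxPt (φ.inv a) := fun ha => ha.map φ.inv
    have hsp : ∀ {a : ↥(pR' G g)}, a ⤳ r' → φ.inv a ⤳ G'.e (IsLocalRing.closedPoint K) := by
      intro a ha
      have h := ha.map φ.inv.continuous
      rw [← hφ, ← Scheme.Hom.comp_apply φ.hom φ.inv, φ.hom_inv_id] at h
      exact h
    have := unique_maxPt_identity G' (Iso.refl _) (IsLocalRing.closedPoint K) (hm ha) (hm hb) (hsp hsa) (hsp hsb)
    have h' := congrArg φ.hom this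
    rwa [← Scheme.Hom.comp_apply, ← Scheme.Hom.comp_apply, φ.inv_hom_id] at h'
  obtain ⟨a, ha, rfl⟩ := Flat.generalizingMap (pA G g) (hr'.symm ▸ hs₁ : η₁ ⤳ pA G g r')
  obtain ⟨b, hb, rfl⟩ := Flat.generalizingMap (pA G g) (hr'.symm ▸ hs₂ : η₂ ⤳ pA G g r')
  obtain ⟨a', ha', haa⟩ := exists_isMaxPt_specializes a
  obtain ⟨b', hb', hbb⟩ := exists_isMaxPt_specializes b
  rw [← h₁ _ (haa.map (pA G g).continuous), ← h₂ _ (hbb.map (pA G g).continuous),
    hinj ha' hb' (haa.trans ha) (hbb.trans hb)]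

theorem minimalPrimes_stalk_subsingleton {X : Scheme.{u}} (r : X)
    (h : ∀ {a b : X}, IsMaxPt a → IsMaxPt b → a ⤳ r → b ⤳ r → a = b) :
    (minimalPrimes (X.presheaf.stalk r)).Subsingleton := by
  have key : ∀ p ∈ minimalPrimes (X.presheaf.stalk r), ∃ x : Spec (X.presheaf.stalk r),
      (show PrimeSpectrum _ from x).asIdeal = p ∧ IsMaxPt (X.fromSpecStalk r x) ∧ X.fromSpecStalk r x ⤳ r := by
    intro p hp
    rw [minimalPrimes_eq_minimals] at hp
    refine ⟨(⟨p, hp.1⟩ : PrimeSpectrum _), rfl, fun w hw => ?_, ?_⟩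
    · obtain ⟨y, rfl⟩ : w ∈ Set.range (X.fromSpecStalk r) := by
        rw [Scheme.range_fromSpecStalk]
        exact hw.trans ((Scheme.range_fromSpecStalk (x := r)).subset ⟨_, rfl⟩)
      rw [(X.fromSpecStalk r).isEmbedding.isInducing.specializes_iff] at hw
      have hle := (PrimeSpectrum.le_iff_specializes _ _).2 hw
      congr 1
      exact PrimeSpectrum.ext (le_antisymm hle (hp.2 (show PrimeSpectrum _ from y).isPrime hle))
    · exact (Scheme.range_fromSpecStalk (x := r)).subset ⟨_, rfl⟩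
  intro p hp q hq
  obtain ⟨x, rfl, hx, hxr⟩ := key p hp
  obtain ⟨y, rfl, hy, hyr⟩ := key q hq
  rw [(X.fromSpecStalk r).isEmbedding.injective (h hx hy hxr hyr)]

theorem existsUnique_component {X : Scheme.{u}} (r : X)
    (h : ∀ {a b : X}, IsMaxPt a → IsMaxPt b → a ⤳ r → b ⤳ r → a = b) :
    ∃! Z : Set X, Z ∈ irreducibleComponents X ∧ r ∈ Z := by
  refine ⟨irreducibleComponent r, ⟨irreducibleComponent_mem_irreducibleComponents r, mem_irreducibleComponent⟩,
    fun Z hZ => ?_⟩
  have hI := irreducibleComponent_mem_irreducibleComponents r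
  have g₁ : closure ({hZ.1.1.genericPoint} : Set X) = Z :=
    hZ.1.1.isGenericPoint_genericPoint (isClosed_of_mem_irreducibleComponents _ hZ.1)
  have g₂ : closure ({hI.1.genericPoint} : Set X) = irreducibleComponent r :=
    hI.1.isGenericPoint_genericPoint (isClosed_of_mem_irreducibleComponents _ hI)
  rw [← g₁, ← g₂]
  congr 2
  exact h (isMaxPt_genericPoint _ hZ.1) (isMaxPt_genericPoint _ hI)
    (specializes_iff_mem_closure.2 (g₁.symm.subset hZ.2)) (specializes_iff_mem_closure.2 (g₂.symm.subset mem_irreducibleComponent))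

theorem e_i : G.e ≫ G.i = G.e := by
  have h1 := G.i_comp G.e
  have h2 := G.comp_e (G.e ≫ G.i)
  have e1 : (G.e ≫ G.i) ≫ G.s ≫ G.e = G.e := by
    rw [Category.assoc, reassoc_of% G.i_s, reassoc_of% G.e_t]
  have e2 : G.e ≫ G.s ≫ G.e = G.e := by rw [reassoc_of% G.e_s]
  rw [e2] at h1
  refine h2.symm.trans (Eq.trans ?_ h1)
  exact L02.Grpd.mul_congr G rfl e1 _ (by rw [Category.assoc, G.i_s])

theorem i_i : G.i ≫ G.i = 𝟙 G.R := by
  have h := L02.Grpd.cancel_left G G.i (𝟙 G.R) (by rw [G.i_s, Category.id_comp])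
  refine Eq.trans ?_ h
  refine ((G.comp_e (G.i ≫ G.i)).symm.trans (L02.Grpd.mul_congr G rfl ?_ _ _))
  have h1 : L02.Grpd.mul G (𝟙 G.R ≫ G.i) (𝟙 G.R) (by simp [G.i_s]) = _ := G.i_comp (𝟙 G.R)
  refine Eq.trans ?_ ((L02.Grpd.mul_congr G (Category.id_comp G.i).symm rfl _ _).trans h1).symm
  simp [reassoc_of% G.i_s, reassoc_of% G.i_t]

include eU in
/-- A component through the identity is geometrically irreducible for the source. -/
theorem geometricallyIrreducible_component (Z : Scheme.{u}) (ι : Z ⟶ G.R) [IsClosedImmersion ι] [IrreducibleSpace Z]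
    (hZ : Set.range ι ∈ irreducibleComponents ↥G.R) (he : G.e (eU.inv (IsLocalRing.closedPoint k)) ∈ Set.range ι) :
    GeometricallyIrreducible (ι ≫ G.s ≫ eU.hom) := by
  let K := AlgebraicClosure k
  set f := ι ≫ G.s ≫ eU.hom
  set h := Spec.map (CommRingCat.ofHom (algebraMap k K))
  set g := h ≫ eU.inv
  haveI := flat_specMap (k := k) K
  haveI : Flat g := inferInstance
  let G' := pullGrpd G g
  let q : pR' G g ⟶ pullback (G.s ≫ eU.hom) h :=
    pullback.lift (pA G g) (pS G g) (by
      rw [← Category.assoc, pA_s, Category.assoc, Category.assoc, Iso.inv_hom_id, Category.comp_id])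
  haveI : Flat q := by
    let q₁ : pR' G g ⟶ pullback G.s g :=
      pullback.map _ _ _ _ (pullback.snd g G.t) (𝟙 _) (𝟙 _) (Category.comp_id _) (by simp)
    let q₂ : pullback G.s g ⟶ pullback (G.s ≫ eU.hom) h :=
      pullback.map _ _ _ _ (𝟙 _) (𝟙 _) eU.hom (by simp) (by simp [g])
    have : q = q₁ ≫ q₂ := by
      apply pullback.hom_ext <;> simp [q, q₁, q₂, pA, pS]
    rw [this]
    haveI : Flat q₁ := MorphismProperty.pullbackMap (inferInstance : Flat (pullback.snd g G.t))
      (inferInstance : Flat (𝟙 (Spec (CommRingCat.of K)))) rfl (by simp)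
    infer_instance
  let j : FBase.bc f K ⟶ pullback (G.s ≫ eU.hom) h :=
    pullback.map _ _ _ _ ι (𝟙 _) (𝟙 _) (by simp [f]) (by simp [h])
  haveI : IsClosedImmersion j := MorphismProperty.pullbackMap (P := @IsClosedImmersion) (inferInstance : IsClosedImmersion ι)
    (inferInstance : IsClosedImmersion (𝟙 (Spec (CommRingCat.of K)))) (by simp [f]) (by simp [h])
  have hj : j ≫ pullback.fst _ _ = FBase.bcπ f K ≫ ι := pullback.lift_fst _ _ _
  have hjr : Set.range j = pullback.fst (G.s ≫ eU.hom) h ⁻¹' Set.range ι := by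
    simp only [j, FBase.bc]
    rw [Scheme.Pullback.range_map]; simp
  have hηZ := isMaxPt_genericPoint _ hZ
  have hcl : closure ({hZ.1.genericPoint} : Set G.R) = Set.range ι :=
    hZ.1.isGenericPoint_genericPoint (isClosed_of_mem_irreducibleComponents _ hZ)
  -- the only point over the identity
  let u₀ := eU.inv (IsLocalRing.closedPoint k)
  let w₀ := q (G'.e (IsLocalRing.closedPoint K))
  have hone : ∀ w, pullback.fst (G.s ≫ eU.hom) h w = G.e u₀ → w = w₀ := by
    intro w hw
    let σ := pullback.map ((eU.inv ≫ G.e) ≫ G.s ≫ eU.hom) h (G.s ≫ eU.hom) h (eU.inv ≫ G.e) (𝟙 _) (𝟙 _) (by simp) (by simp)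
    have hσ : ∀ w, pullback.fst (G.s ≫ eU.hom) h w = G.e u₀ → w ∈ Set.range σ := fun w hw => by
      rw [Scheme.Pullback.range_map]
      exact ⟨⟨IsLocalRing.closedPoint k, hw.symm⟩, ⟨_, rfl⟩⟩
    have hid : (eU.inv ≫ G.e) ≫ G.s ≫ eU.hom = 𝟙 _ := by simp [reassoc_of% G.e_s]
    haveI : IsIso ((eU.inv ≫ G.e) ≫ G.s ≫ eU.hom) := hid ▸ inferInstance
    haveI : Subsingleton ↥(pullback ((eU.inv ≫ G.e) ≫ G.s ≫ eU.hom) h) :=
      (pullback.snd ((eU.inv ≫ G.e) ≫ G.s ≫ eU.hom) h).homeomorph.toEquiv.subsingleton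
    have hw₀ : pullback.fst (G.s ≫ eU.hom) h w₀ = G.e u₀ := by
      show ((G'.e ≫ q) ≫ pullback.fst _ _) _ = _
      rw [Category.assoc, pullback.lift_fst, show G'.e ≫ pA G g = g ≫ G.e from pMk_a (𝟙 _) (g ≫ G.e) (𝟙 _) (by rw [Category.assoc, G.e_t, Category.comp_id, Category.id_comp]) (by rw [Category.assoc, G.e_s, Category.comp_id, Category.id_comp]),
        Scheme.Hom.comp_apply]
      congr 1
      exact @Subsingleton.elim _ eU.hom.homeomorph.toEquiv.subsingleton _ _
    obtain ⟨x, rfl⟩ := hσ w hw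
    obtain ⟨y, hy⟩ := hσ w₀ hw₀
    rw [← hy, Subsingleton.elim x y]
  have huniq : ∀ a b : ↥(FBase.bc f K), IsMaxPt a → IsMaxPt b → a = b := by
    have hmax : ∀ {a : ↥(FBase.bc f K)}, IsMaxPt a → IsMaxPt (j a) ∧ j a ⤳ w₀ := by
      intro a ha
      haveI := Groth.L22.GeomConn.flat_bcπ f K
      have hπ : IsMaxPt (FBase.bcπ f K a) := ha.map _
      have hgen : ι (FBase.bcπ f K a) = hZ.1.genericPoint := by
        obtain ⟨z, hz⟩ : hZ.1.genericPoint ∈ Set.range ι := hcl.subset (subset_closure rfl)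
        have hs : ι z ⤳ ι (FBase.bcπ f K a) := by
          rw [hz]; exact specializes_iff_mem_closure.2 (hcl.symm.subset ⟨_, rfl⟩)
        rw [← hπ z (ι.isEmbedding.isInducing.specializes_iff.1 hs), hz]
      have hfst : pullback.fst (G.s ≫ eU.hom) h (j a) = hZ.1.genericPoint := by
        rw [← Scheme.Hom.comp_apply, hj, Scheme.Hom.comp_apply, hgen]
      refine ⟨fun w hw => ?_, ?_⟩
      · haveI : Flat (pullback.fst (G.s ≫ eU.hom) h) := inferInstance
        have := hηZ _ (hfst ▸ hw.map (pullback.fst (G.s ≫ eU.hom) h).continuous)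
        obtain ⟨c, rfl⟩ : w ∈ Set.range j := by
          rw [hjr, Set.mem_preimage, this]; exact hcl.subset (subset_closure rfl)
        rw [ha c (j.isEmbedding.isInducing.specializes_iff.1 hw)]
      · obtain ⟨z₀, hz₀⟩ := he
        obtain ⟨b, hb, hbz⟩ : z₀ ∈ FBase.bcπ f K '' closure {a} := by
          rw [Groth.L22.GeomConn.image_closure_algebraic]
          exact (ι.isEmbedding.isInducing.specializes_iff.1
            (by rw [hgen, hz₀]; exact specializes_iff_mem_closure.2 (hcl.symm.subset ⟨z₀, hz₀⟩))).mem_closure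
        rw [← hone (j b) (by rw [← Scheme.Hom.comp_apply, hj, Scheme.Hom.comp_apply, hbz, hz₀])]
        exact (specializes_iff_mem_closure.2 hb).map j.continuous
    intro a b ha hb
    obtain ⟨a', ha', hqa⟩ := Flat.generalizingMap q (hmax ha).2
    obtain ⟨b', hb', hqb⟩ := Flat.generalizingMap q (hmax hb).2
    obtain ⟨a'', ma, haa⟩ := exists_isMaxPt_specializes a'
    obtain ⟨b'', mb, hbb⟩ := exists_isMaxPt_specializes b'
    have := unique_maxPt_identity G' (Iso.refl _) (IsLocalRing.closedPoint K) ma mb (haa.trans ha') (hbb.trans hb')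
    refine j.isEmbedding.injective ?_
    rw [← (hmax ha).1 _ (hqa ▸ haa.map q.continuous), ← (hmax hb).1 _ (hqb ▸ hbb.map q.continuous), this]
  haveI : IrreducibleSpace ↥(FBase.bc f K) := by
    haveI : Nonempty ↥(FBase.bc f K) := by
      obtain ⟨z₀, hz₀⟩ := he
      obtain ⟨c, hc⟩ : w₀ ∈ Set.range j := by
        rw [hjr, Set.mem_preimage]
        obtain ⟨w, hw⟩ := (pullback.fst (G.s ≫ eU.hom) h).surjective (G.e u₀)
        exact ⟨z₀, by rw [hz₀, ← hw, hone w hw]⟩
      exact ⟨c⟩
    obtain ⟨t, ht, -⟩ := exists_isMaxPt_specializes (Classical.arbitrary ↥(FBase.bc f K))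
    refine (irreducibleSpace_def _).2 ?_
    have : (Set.univ : Set ↥(FBase.bc f K)) = closure {t} := (Set.eq_univ_iff_forall.2 fun x => by
      obtain ⟨s, hs, hsx⟩ := exists_isMaxPt_specializes x
      exact (huniq s t hs ht ▸ hsx).mem_closure).symm
    show IsIrreducible (Set.univ : Set ↥(FBase.bc f K))
    rw [this]
    exact isIrreducible_singleton.closure
  exact Groth.L22.GeomConn.geometricallyIrreducible_of_sepClosed f K

end Groth.L24.GrpdField
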