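import Groth.Agent.L02.Grpd.Algebra
import Groth.Agent.S2155
import Mathlib.AlgebraicGeometry.Morphisms.Smooth
import Mathlib.AlgebraicGeometry.Morphisms.Separated
import Mathlib.AlgebraicGeometry.Morphisms.UniversallyOpen

/-!
Fibres of the source of a groupoid, smoothness and separatedness over a field.
-/

set_option autoImplicit false
set_option linter.style.haveILetI false
set_option backward.isDefEq.respectTransparency false
set_option backward.isDefEq.respectTransparency.types false
universe u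

open CategoryTheory CategoryTheory.Limits AlgebraicGeometry
open L02.Grpd (mul mul_congr comp_mul mul_s mul_t inv_s inv_t cancel_right cancel_right' cancel_left')

namespace Groth.L24.GrpdField

variable {S : Scheme.{u}} (G : Grpd.GroupoidScheme S)

/-- Fibres of `s` over two points with a common target are isomorphic over a common field. -/
theorem exists_iso_fibres (r r' : G.R) (h : G.t r = G.t r') :
    ∃ (k : Type u) (_ : Field k) (a b : Spec (CommRingCat.of k) ⟶ G.U) (φ : pullback G.s a ≅ pullback G.s b)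
      (p : ↥(pullback G.s a)), a (IsLocalRing.closedPoint k) = G.s r ∧ b (IsLocalRing.closedPoint k) = G.s r' ∧
      φ.hom ≫ pullback.snd G.s b = pullback.snd G.s a ∧ pullback.fst G.s a p = r ∧
      pullback.fst G.s b (φ.hom p) = r' := by
  obtain ⟨q, hq₁, hq₂⟩ := Scheme.Pullback.exists_preimage_pullback (f := G.t) (g := G.t) r r' h
  let k := (pullback G.t G.t).residueField q
  obtain ⟨α, hα⟩ : ∃ α : Spec (CommRingCat.of k) ⟶ G.R,
      α = (pullback G.t G.t).fromSpecResidueField q ≫ pullback.fst G.t G.t := ⟨_, rfl⟩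
  obtain ⟨β, hβ⟩ : ∃ β : Spec (CommRingCat.of k) ⟶ G.R,
      β = (pullback G.t G.t).fromSpecResidueField q ≫ pullback.snd G.t G.t := ⟨_, rfl⟩
  have hαβ : α ≫ G.t = β ≫ G.t := by simp [hα, hβ, pullback.condition]
  have hαr : α (IsLocalRing.closedPoint k) = r := by
    rw [hα, Scheme.Hom.comp_apply]; erw [Scheme.fromSpecResidueField_apply]; exact hq₁
  have hβr : β (IsLocalRing.closedPoint k) = r' := by
    rw [hβ, Scheme.Hom.comp_apply]; erw [Scheme.fromSpecResidueField_apply]; exact hq₂
  let γ := mul G (α ≫ G.i) β ((inv_s G α).trans hαβ)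
  have hγs : γ ≫ G.s = β ≫ G.s := mul_s G _ _ _
  have hγt : γ ≫ G.t = α ≫ G.s := (mul_t G _ _ _).trans (inv_t G α)
  have w₁ : pullback.fst G.s (α ≫ G.s) ≫ G.s = (pullback.snd G.s (α ≫ G.s) ≫ γ) ≫ G.t := by
    rw [Category.assoc, hγt, pullback.condition]
  let φ : pullback G.s (α ≫ G.s) ⟶ pullback G.s (β ≫ G.s) :=
    pullback.lift (mul G (pullback.fst _ _) (pullback.snd _ _ ≫ γ) w₁) (pullback.snd _ _)
      (by rw [mul_s, Category.assoc, hγs])
  have w₂ : pullback.fst G.s (β ≫ G.s) ≫ G.s = ((pullback.snd G.s (β ≫ G.s) ≫ γ) ≫ G.i) ≫ G.t := by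
    rw [inv_t, Category.assoc, hγs, pullback.condition]
  let ψ : pullback G.s (β ≫ G.s) ⟶ pullback G.s (α ≫ G.s) :=
    pullback.lift (mul G (pullback.fst _ _) ((pullback.snd _ _ ≫ γ) ≫ G.i) w₂) (pullback.snd _ _)
      (by rw [mul_s, inv_s, Category.assoc, hγt])
  have h₁ : φ ≫ ψ = 𝟙 _ := by
    apply pullback.hom_ext
    · rw [Category.assoc, pullback.lift_fst, comp_mul, Category.id_comp]
      exact (mul_congr G (pullback.lift_fst _ _ _) (by simp only [← Category.assoc, φ, pullback.lift_snd]) _
        (by rw [mul_s, inv_t])).trans (cancel_right G _ _ w₁)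
    · rw [Category.assoc, pullback.lift_snd, pullback.lift_snd, Category.id_comp]
  have h₂ : ψ ≫ φ = 𝟙 _ := by
    apply pullback.hom_ext
    · rw [Category.assoc, pullback.lift_fst, comp_mul, Category.id_comp]
      exact (mul_congr G (pullback.lift_fst _ _ _) (by simp only [← Category.assoc, ψ, pullback.lift_snd]) _
        (by rw [mul_s, inv_s])).trans (cancel_right' G _ _ (by rw [pullback.condition, Category.assoc, hγs]))
    · rw [Category.assoc, pullback.lift_snd, pullback.lift_snd, Category.id_comp]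
  let σ : Spec (CommRingCat.of k) ⟶ pullback G.s (α ≫ G.s) := pullback.lift α (𝟙 _) (Category.id_comp _).symm
  refine ⟨k, inferInstance, α ≫ G.s, β ≫ G.s, ⟨φ, ψ, h₁, h₂⟩, σ (IsLocalRing.closedPoint k), ?_, ?_,
    pullback.lift_snd _ _ _, ?_, ?_⟩
  · rw [Scheme.Hom.comp_apply, hαr]
  · rw [Scheme.Hom.comp_apply, hβr]
  · show (σ ≫ pullback.fst _ _) _ = r
    rw [pullback.lift_fst]
    exact hαr
  · show (σ ≫ φ ≫ pullback.fst _ _) _ = r'
    have : σ ≫ φ ≫ pullback.fst G.s (β ≫ G.s) = β := by
      rw [pullback.lift_fst, comp_mul]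
      refine (mul_congr G (pullback.lift_fst _ _ _) (by rw [← Category.assoc, pullback.lift_snd, Category.id_comp]) _
        hγt.symm).trans ?_
      exact cancel_left' G α β hαβ
    rw [this]
    exact hβr

variable {k : Type u} [Field k] (eU : G.U ≅ Spec (CommRingCat.of k))

include eU in
/-- Over a field `s` is smooth as soon as it is smooth somewhere. -/
theorem smooth_s_of_nonempty_smoothLocus [LocallyOfFinitePresentation G.s]
    (hne : (G.s.smoothLocus : Set G.R).Nonempty) : Smooth G.s := by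
  haveI : Subsingleton G.U := eU.hom.homeomorph.toEquiv.subsingleton
  haveI : Nonempty G.U := ⟨eU.inv (IsLocalRing.closedPoint k)⟩
  haveI : IsIntegral G.U := isIntegral_of_isOpenImmersion eU.hom
  rw [← Scheme.Hom.smoothLocus_eq_top_iff]
  obtain ⟨r₀, hr₀⟩ := hne
  refine eq_top_iff.2 fun r _ => ?_
  obtain ⟨K, iK, a, b, φ, p, -, -, hφ, hp, hφp⟩ := exists_iso_fibres G r₀ r (Subsingleton.elim _ _)
  have e₁ := Groth.Agent.S2155.result G.s a (pullback.snd G.s a) (pullback.fst G.s a) (IsPullback.of_hasPullback _ _)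
    (Or.inr inferInstance)
  have e₂ := Groth.Agent.S2155.result G.s b (pullback.snd G.s b) (pullback.fst G.s b) (IsPullback.of_hasPullback _ _)
    (Or.inr inferInstance)
  have e₃ := φ.hom.preimage_smoothLocus_eq (pullback.snd G.s b)
  have hmem : p ∈ (pullback.snd G.s a).smoothLocus := by
    rw [e₁]; show pullback.fst G.s a p ∈ G.s.smoothLocus; rw [hp]; exact hr₀
  have : p ∈ φ.hom ⁻¹ᵁ (pullback.snd G.s b).smoothLocus := by
    rw [e₃]
    simp only [hφ]
    exact hmem
  rw [e₂] at this
  rw [← hφp]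
  exact this

theorem smooth_t_of_smooth_s [Smooth G.s] : Smooth G.t := by
  haveI : IsIso G.i := ⟨G.i, ?_, ?_⟩
  · rw [← G.i_s]; infer_instance
  all_goals
    have h := L02.Grpd.cancel_left G G.i (𝟙 G.R) (by rw [G.i_s, Category.id_comp])
    refine Eq.trans ?_ h
    refine ((G.comp_e (G.i ≫ G.i)).symm.trans (mul_congr G rfl ?_ _ _))
    have h1 : mul G (𝟙 G.R ≫ G.i) (𝟙 G.R) (by simp [G.i_s]) = _ := G.i_comp (𝟙 G.R)
    refine Eq.trans ?_ ((mul_congr G (Category.id_comp G.i).symm rfl _ _).trans h1).symm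
    simp [reassoc_of% G.i_s, reassoc_of% G.i_t]

theorem isClosed_range_section {X : Scheme.{u}} {k : Type u} [Field k] (p : X ⟶ Spec (CommRingCat.of k))
    (σ : Spec (CommRingCat.of k) ⟶ X) (hσ : σ ≫ p = 𝟙 _) : IsClosedImmersion σ := by
  have hfac : ∀ {V : X.Opens}, IsAffineOpen V → σ (IsLocalRing.closedPoint k) ∈ V →
      ∃ σ' : Spec (CommRingCat.of k) ⟶ V, IsClosedImmersion σ' ∧ σ' ≫ V.ι = σ := by
    intro V hV hmem
    haveI : IsAffine V := hV
    have hr : Set.range σ ⊆ Set.range V.ι := by
      rintro _ ⟨x, rfl⟩; rw [V.range_ι, Subsingleton.elim x (IsLocalRing.closedPoint k)]; exact hmem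
    refine ⟨IsOpenImmersion.lift V.ι σ hr, ?_, IsOpenImmersion.lift_fac _ _ _⟩
    haveI : IsClosedImmersion (IsOpenImmersion.lift V.ι σ hr ≫ V.ι ≫ p) := by
      rw [IsOpenImmersion.lift_fac_assoc, hσ]; infer_instance
    exact IsClosedImmersion.of_comp _ (V.ι ≫ p)
  obtain ⟨_, ⟨W, hW, rfl⟩, hxW, -⟩ :=
    X.isBasis_affineOpens.exists_subset_of_mem_open (Set.mem_univ (σ (IsLocalRing.closedPoint k))) isOpen_univ
  obtain ⟨σ', hσ', hσfac⟩ := hfac hW hxW
  haveI : IsPreimmersion σ := by rw [← hσfac]; infer_instance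
  refine IsClosedImmersion.of_isPreimmersion σ ?_
  rw [show Set.range σ = {σ (IsLocalRing.closedPoint k)} from Set.ext fun y =>
    ⟨fun ⟨x, hx⟩ => by rw [← hx, Subsingleton.elim x (IsLocalRing.closedPoint k)]; rfl, fun hy => ⟨_, hy.symm⟩⟩]
  refine closure_subset_iff_isClosed.mp fun z hz => ?_
  obtain ⟨_, ⟨V, hV, rfl⟩, hzV, -⟩ := X.isBasis_affineOpens.exists_subset_of_mem_open (Set.mem_univ z) isOpen_univ
  have hxz := specializes_iff_mem_closure.2 hz
  obtain ⟨τ, hτ, hτfac⟩ := hfac hV (hxz.mem_open V.2 hzV)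
  obtain ⟨x, hx⟩ : (⟨z, hzV⟩ : V) ∈ Set.range τ := by
    refine Specializes.mem_closed (?_ : τ (IsLocalRing.closedPoint k) ⤳ _) τ.isClosedEmbedding.isClosed_range ⟨_, rfl⟩
    rw [← (Scheme.Opens.ι V).isEmbedding.isInducing.specializes_iff, ← Scheme.Hom.comp_apply, hτfac]
    exact hxz
  have h' := congrArg (Scheme.Opens.ι V) hx
  rw [← Scheme.Hom.comp_apply, hτfac, Subsingleton.elim x (IsLocalRing.closedPoint k)] at h'
  exact h'.symm

include eU in
theorem isSeparated_R : G.R.IsSeparated := by
  haveI : IsClosedImmersion G.e := by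
    haveI := isClosed_range_section (G.s ≫ eU.hom) (eU.inv ≫ G.e) (by simp [reassoc_of% G.e_s])
    have : G.e = eU.hom ≫ eU.inv ≫ G.e := by rw [Iso.hom_inv_id_assoc]
    rw [this]; infer_instance
  let φ := mul G (pullback.fst G.s G.s) (pullback.snd G.s G.s ≫ G.i)
    (by rw [Category.assoc, G.i_t, pullback.condition])
  have hφt : φ ≫ G.t = pullback.fst G.s G.s ≫ G.t := mul_t G _ _ _
  have hφs : φ ≫ G.s = pullback.snd G.s G.s ≫ G.t := (mul_s G _ _ _).trans (by rw [Category.assoc, G.i_s])
  have hd : pullback.diagonal G.s ≫ φ = G.t ≫ G.e := by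
    rw [comp_mul]
    refine (mul_congr G (pullback.diagonal_fst _) (by rw [← Category.assoc, pullback.diagonal_snd]) _
      (by rw [inv_t])).trans ?_
    exact (G.comp_i (𝟙 G.R)).trans (Category.id_comp _)
  have sq : IsPullback G.t (pullback.diagonal G.s) G.e φ := by
    refine IsPullback.of_isLimit' ⟨hd.symm⟩ (PullbackCone.IsLimit.mk _ (fun c => c.snd ≫ pullback.snd G.s G.s)
      (fun c => ?_) (fun c => ?_) fun c m h₁ h₂ => ?_)
    · have := congrArg (· ≫ G.s) c.condition
      simp only [Category.assoc, G.e_s, Category.comp_id] at this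
      rw [this, hφs, Category.assoc]
    · apply pullback.hom_ext
      · rw [Category.assoc, pullback.diagonal_fst, Category.comp_id]
        have w : (c.snd ≫ pullback.fst G.s G.s) ≫ G.s = (c.snd ≫ pullback.snd G.s G.s) ≫ G.s := by
          simp [pullback.condition]
        refine Eq.trans ?_ (cancel_right' G _ _ w)
        refine Eq.trans ?_ (mul_congr G (?_ : c.fst ≫ G.e = _) rfl
          (by rw [Category.assoc, G.e_s, Category.comp_id]
              have := congrArg (· ≫ G.s) c.condition
              simp only [Category.assoc, G.e_s, Category.comp_id] at this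
              rw [this, hφs, Category.assoc]) _)
        · have h := G.e_comp (c.snd ≫ pullback.snd G.s G.s)
          refine h.symm.trans (mul_congr G ?_ rfl _ _)
          have := congrArg (· ≫ G.s) c.condition
          simp only [Category.assoc, G.e_s, Category.comp_id] at this
          rw [this, ← Category.assoc, Category.assoc c.snd, ← hφs, Category.assoc, Category.assoc]
        · refine c.condition.trans ?_
          rw [comp_mul]
          exact mul_congr G rfl (Category.assoc _ _ _).symm _ _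
      · rw [Category.assoc, pullback.diagonal_snd, Category.comp_id]
    · rw [← h₂, Category.assoc, pullback.diagonal_snd, Category.comp_id]
  haveI : IsSeparated G.s := ⟨MorphismProperty.of_isPullback (P := @IsClosedImmersion) sq ‹_›⟩
  haveI : IsAffine G.U := IsAffine.of_isIso eU.hom
  refine ⟨?_⟩
  rw [Subsingleton.elim (terminal.from G.R) (G.s ≫ terminal.from G.U)]
  infer_instance

end Groth.L24.GrpdField
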