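import Mathlib.AlgebraicGeometry.Morphisms.UniversallyOpen
import Mathlib.AlgebraicGeometry.IdealSheaf.Subscheme

/-!
Fibre products over the spectrum of a field and closures.
-/

set_option autoImplicit false
set_option linter.style.haveILetI false
universe u

open CategoryTheory CategoryTheory.Limits AlgebraicGeometry TopologicalSpace

namespace Groth.L24.GrpdField

variable {X Y U : Scheme.{u}} (f : X ⟶ U) (g : Y ⟶ U) [IsIntegral U] [Subsingleton U]

/-- If the projections of `p` lie in `{a}` and in the closure of `B`, then every neighbourhood of `p`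
contains a point over `a` and over `B`. -/
theorem exists_mem_fibre (a : X) (B : Set Y) (N : Set ↥(pullback f g)) (hN : IsOpen N)
    (p : ↥(pullback f g)) (hp : p ∈ N) (h₁ : pullback.fst f g p = a) (h₂ : pullback.snd f g p ∈ closure B) :
    ∃ q ∈ N, pullback.fst f g q = a ∧ pullback.snd f g q ∈ B := by
  set I := Scheme.IdealSheafData.vanishingIdeal (⟨closure B, isClosed_closure⟩ : Closeds Y)
  have hrange : Set.range I.subschemeι = closure B := by
    rw [Scheme.IdealSheafData.range_subschemeι, Scheme.IdealSheafData.coe_support_vanishingIdeal]; rfl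
  set m := pullback.map (X.fromSpecResidueField a ≫ f) (I.subschemeι ≫ g) f g
    (X.fromSpecResidueField a) I.subschemeι (𝟙 U) (by simp) (by simp)
  have hm : Set.range m = pullback.fst f g ⁻¹' {a} ∩ pullback.snd f g ⁻¹' closure B := by
    rw [Scheme.Pullback.range_map, X.range_fromSpecResidueField, hrange]
  obtain ⟨z, hz⟩ : p ∈ Set.range m := hm ▸ ⟨h₁, h₂⟩
  set π := pullback.snd (X.fromSpecResidueField a ≫ f) (I.subschemeι ≫ g)
  have hO := π.isOpenMap _ (hN.preimage m.continuous)
  obtain ⟨V, hV, hVeq⟩ := I.subschemeι.isEmbedding.isInducing.isOpen_iff.mp hO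
  obtain ⟨w, hwV, hwB⟩ : (V ∩ B).Nonempty := by
    refine mem_closure_iff.mp ?_ V hV (?_ : I.subschemeι (π z) ∈ V)
    · rw [← hrange]; exact ⟨_, rfl⟩
    · have : π z ∈ I.subschemeι ⁻¹' V := hVeq ▸ ⟨z, show m z ∈ N by rwa [hz], rfl⟩
      exact this
  obtain ⟨w', hw'⟩ : w ∈ Set.range I.subschemeι := hrange ▸ subset_closure hwB
  obtain ⟨v, hvN, hv⟩ : w' ∈ π '' (m ⁻¹' N) := hVeq ▸ show I.subschemeι w' ∈ V by rwa [hw']
  refine ⟨m v, hvN, ?_, ?_⟩
  · have hmv : m v ∈ pullback.fst f g ⁻¹' {a} ∩ pullback.snd f g ⁻¹' closure B := hm ▸ ⟨v, rfl⟩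
    exact hmv.1
  · show (m ≫ pullback.snd f g) v ∈ B
    rw [pullback.lift_snd, Scheme.Hom.comp_apply, hv, hw']
    exact hwB

/-- A point with both projections in closures lies in the closure of the pairs. -/
theorem mem_closure_pair (A : Set X) (B : Set Y) (p : ↥(pullback f g))
    (h₁ : pullback.fst f g p ∈ closure A) (h₂ : pullback.snd f g p ∈ closure B) :
    p ∈ closure (pullback.fst f g ⁻¹' A ∩ pullback.snd f g ⁻¹' B) := by
  refine mem_closure_iff.mpr fun N hN hp => ?_
  -- base change to the reduced closed subscheme on `closure B`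
  set I := Scheme.IdealSheafData.vanishingIdeal (⟨closure B, isClosed_closure⟩ : Closeds Y)
  have hrange : Set.range I.subschemeι = closure B := by
    rw [Scheme.IdealSheafData.range_subschemeι, Scheme.IdealSheafData.coe_support_vanishingIdeal]; rfl
  set m := pullback.map f (I.subschemeι ≫ g) f g (𝟙 X) I.subschemeι (𝟙 U) (by simp) (by simp)
  have hm : Set.range m = pullback.snd f g ⁻¹' closure B := by
    rw [Scheme.Pullback.range_map, hrange]
    simp
  obtain ⟨z, hz⟩ : p ∈ Set.range m := hm ▸ h₂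
  have hO := (pullback.fst f (I.subschemeι ≫ g)).isOpenMap _ (hN.preimage m.continuous)
  have hfst : ∀ v, pullback.fst f g (m v) = pullback.fst f (I.subschemeι ≫ g) v := by
    intro v
    show (m ≫ pullback.fst f g) v = _
    rw [pullback.lift_fst, Category.comp_id]
  obtain ⟨a, ⟨v, hvN, hva⟩, haA⟩ := mem_closure_iff.mp h₁ _ hO ⟨z, show m z ∈ N by rwa [hz], by rw [← hfst, hz]⟩
  obtain ⟨q, hqN, hq1, hq2⟩ := exists_mem_fibre f g a B N hN (m v) hvN (by rw [hfst, hva])
    (show m v ∈ pullback.snd f g ⁻¹' closure B from hm ▸ ⟨v, rfl⟩)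
  exact ⟨q, hqN, show pullback.fst f g q ∈ A by rwa [hq1], hq2⟩

end Groth.L24.GrpdField
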