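import Groth.Agent.L24.GrpdField.SubGrpd

/-!
The pair groupoid and the image of `(t, s)` over a field.
-/

set_option autoImplicit false
set_option linter.style.haveILetI false
set_option backward.isDefEq.respectTransparency false
set_option backward.isDefEq.respectTransparency.types false
universe u

open CategoryTheory CategoryTheory.Limits AlgebraicGeometry

namespace Groth.L24.GrpdField

variable {S : Scheme.{u}}

/-- A morphism of groupoids factors through a subgroupoid when its arrow map does. -/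
theorem exists_factor_hom {G₁ G' G₂ : Grpd.GroupoidScheme S} (f : Grpd.GroupoidScheme.Hom G₁ G₂)
    (ψ : Grpd.GroupoidScheme.Hom G' G₂) [IsIso ψ.fU] [Mono ψ.fR] (l : G₁.R ⟶ G'.R) (hl : l ≫ ψ.fR = f.fR) :
    ∃ φ : Grpd.GroupoidScheme.Hom G₁ G', φ.fR = l ∧ φ.fU = f.fU ≫ inv ψ.fU := by
  have hs : l ≫ G'.s = G₁.s ≫ f.fU ≫ inv ψ.fU := by
    rw [← cancel_mono ψ.fU]
    simp only [Category.assoc, IsIso.inv_hom_id, Category.comp_id]
    rw [← ψ.comm_s, reassoc_of% hl, f.comm_s]
  have ht : l ≫ G'.t = G₁.t ≫ f.fU ≫ inv ψ.fU := by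
    rw [← cancel_mono ψ.fU]
    simp only [Category.assoc, IsIso.inv_hom_id, Category.comp_id]
    rw [← ψ.comm_t, reassoc_of% hl, f.comm_t]
  refine ⟨⟨f.fU ≫ inv ψ.fU, l, ?_, hs, ht, fun α β h => ?_⟩, rfl, rfl⟩
  · rw [Category.assoc, ← ψ.fU_over, IsIso.inv_hom_id_assoc, f.fU_over]
  · rw [← cancel_mono ψ.fR]
    simp only [Category.assoc, hl]
    rw [← Category.assoc, f.comm_c]
    refine Eq.trans ?_ (Category.assoc _ _ _)
    rw [ψ.comm_c]
    exact L02.Grpd.mul_congr G₂ (by rw [Category.assoc, hl]) (by rw [Category.assoc, hl]) _ _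

/-- The pair groupoid of a scheme over `S`. -/
noncomputable def pairGrpd {U : Scheme.{u}} (p : U ⟶ S) : Grpd.GroupoidScheme S where
  U := U
  R := pullback p p
  pU := p
  pR := pullback.fst p p ≫ p
  s := pullback.snd p p
  t := pullback.fst p p
  e := pullback.lift (𝟙 U) (𝟙 U) rfl
  i := pullback.lift (pullback.snd p p) (pullback.fst p p) pullback.condition.symm
  c := pullback.lift (pullback.fst _ _ ≫ pullback.fst p p) (pullback.snd _ _ ≫ pullback.snd p p)
    (by rw [Category.assoc, Category.assoc, pullback.condition (f := p) (g := p),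
      reassoc_of% (pullback.condition (f := pullback.snd p p) (g := pullback.fst p p))]
        <;> simp [pullback.condition])
  s_over := pullback.condition.symm
  t_over := rfl
  comp_s α β h := by simp
  comp_t α β h := by simp
  assoc α β γ h₁ h₂ := by apply pullback.hom_ext <;> simp
  e_s := pullback.lift_snd _ _ _
  e_t := pullback.lift_fst _ _ _
  comp_e α := by apply pullback.hom_ext <;> simp
  e_comp α := by apply pullback.hom_ext <;> simp
  i_s := pullback.lift_snd _ _ _
  i_t := pullback.lift_fst _ _ _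
  comp_i α := by apply pullback.hom_ext <;> simp
  i_comp α := by apply pullback.hom_ext <;> simp

/-- `(t, s)` as a morphism to the pair groupoid. -/
noncomputable def jHom (G : Grpd.GroupoidScheme S) : Grpd.GroupoidScheme.Hom G (pairGrpd G.pU) where
  fU := 𝟙 G.U
  fR := G.j
  fU_over := Category.id_comp _
  comm_s := by simp [pairGrpd, Grpd.GroupoidScheme.j]
  comm_t := by simp [pairGrpd, Grpd.GroupoidScheme.j]
  comm_c α β h := by
    apply pullback.hom_ext
    · refine (show _ = (pullback.lift α β h ≫ G.c) ≫ G.t from by simp [pairGrpd, Grpd.GroupoidScheme.j, reassoc_of% h]).trans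
        ((G.comp_t α β h).trans ?_)
      simp [pairGrpd, Grpd.GroupoidScheme.j]
    · refine (show _ = (pullback.lift α β h ≫ G.c) ≫ G.s from by simp [pairGrpd, Grpd.GroupoidScheme.j, reassoc_of% h]).trans
        ((G.comp_s α β h).trans ?_)
      simp [pairGrpd, Grpd.GroupoidScheme.j]

instance (G : Grpd.GroupoidScheme S) : IsIso (jHom G).fU := inferInstanceAs (IsIso (𝟙 G.U))

/-- A subgroupoid of the pair groupoid has `j` equal to its inclusion. -/
theorem j_eq {G' : Grpd.GroupoidScheme S} {U : Scheme.{u}} {p : U ⟶ S}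
    (ψ : Grpd.GroupoidScheme.Hom G' (pairGrpd p)) [IsIso ψ.fU] (e₁ : G'.pU ≫ 𝟙 S = ψ.fU ≫ p) :
    G'.j ≫ pullback.map G'.pU G'.pU p p ψ.fU ψ.fU (𝟙 S) e₁ e₁ = ψ.fR := by
  refine pullback.hom_ext (f := p) (g := p) ?_ ?_
  · exact (by simp [Grpd.GroupoidScheme.j] : _ = G'.t ≫ ψ.fU).trans ψ.comm_t.symm
  · exact (by simp [Grpd.GroupoidScheme.j] : _ = G'.s ≫ ψ.fU).trans ψ.comm_s.symm

end Groth.L24.GrpdField
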