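import Mathlib.FieldTheory.IsAlgClosed.Classification
import Mathlib.FieldTheory.IsAlgClosed.AlgebraicClosure
import Mathlib.SetTheory.Cardinal.Basic

/-!
Two embeddings of a field into a big algebraically closed field differ by an automorphism.
-/

set_option autoImplicit false
set_option linter.style.haveILetI false
universe u

open Cardinal

namespace Groth.L24.GrpdField

variable (R : Type u) [CommRing R] {K L : Type u} [Field K] [Field L] [Algebra R K] [Algebra R L]
  [IsAlgClosed K] [IsAlgClosed L]

theorem exists_algEquiv_of_transcendenceBasis {ι κ : Type u} {v : ι → K} {w : κ → L} (e : ι ≃ κ)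
    (hv : IsTranscendenceBasis R v) (hw : IsTranscendenceBasis R w) : Nonempty (K ≃ₐ[R] L) := by
  letI := IsAlgClosed.isAlgClosure_of_transcendence_basis v hv
  letI := IsAlgClosed.isAlgClosure_of_transcendence_basis w hw
  let a : Algebra.adjoin R (Set.range v) ≃ₐ[R] Algebra.adjoin R (Set.range w) :=
    hv.1.aevalEquiv.symm.trans ((MvPolynomial.renameEquiv R e).trans hw.1.aevalEquiv)
  refine ⟨AlgEquiv.ofRingEquiv (f := IsAlgClosure.equivOfEquiv K L a.toRingEquiv) fun r => ?_⟩
  rw [IsScalarTower.algebraMap_apply R (Algebra.adjoin R (Set.range v)) K,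
    IsScalarTower.algebraMap_apply R (Algebra.adjoin R (Set.range w)) L]
  simp only [IsAlgClosure.equivOfEquiv_algebraMap]
  congr 1
  exact a.commutes r

/-- Two embeddings of a field `k` into an algebraically closed field of greater cardinality differ
by an automorphism. -/
theorem exists_auto {k K : Type u} [Field k] [Field K] [IsAlgClosed K] (hK : max #k ℵ₀ < #K)
    (i j : k →+* K) : ∃ σ : K ≃+* K, ∀ x, σ (i x) = j x := by
  have key : ∀ i : k →+* K, ∃ (ι : Type u) (v : ι → K),
      letI := i.toAlgebra; IsTranscendenceBasis k v ∧ #ι = #K := by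
    intro i
    letI := i.toAlgebra
    obtain ⟨s, hs⟩ := exists_isTranscendenceBasis k K
    refine ⟨_, _, hs, le_antisymm (mk_le_of_injective Subtype.val_injective) ?_⟩
    have h := IsAlgClosed.cardinal_le_max_transcendence_basis' _ hs
    by_contra hlt
    push Not at hlt
    exact absurd h (not_le.mpr (max_lt (max_lt ((le_max_left _ _).trans_lt hK) hlt)
      ((le_max_right _ _).trans_lt hK)))
  obtain ⟨ι, v, hv, hι⟩ := key i
  obtain ⟨κ, w, hw, hκ⟩ := key j
  obtain ⟨e⟩ := Cardinal.eq.mp (hι.trans hκ.symm)
  obtain ⟨σ⟩ := @exists_algEquiv_of_transcendenceBasis k _ K K _ _ i.toAlgebra j.toAlgebra _ _ ι κ v w e hv hw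
  exact ⟨@AlgEquiv.toRingEquiv k K K _ _ _ i.toAlgebra j.toAlgebra σ,
    fun x => @AlgEquiv.commutes k K K _ _ _ i.toAlgebra j.toAlgebra σ x⟩

private theorem mk_lt_set (α : Type u) : #α < #(Set α) := by rw [mk_set]; exact cantor _

/-- A field embeds into an algebraically closed field in which any two embeddings of a given smaller
field differ by an automorphism. -/
theorem exists_big_algClosed (k F : Type u) [Field k] [Field F] :
    ∃ (K : Type u) (_ : Field K) (_ : IsAlgClosed K) (_ : F →+* K),
      ∀ a b : k →+* K, ∃ σ : K ≃+* K, ∀ x, σ (a x) = b x := by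
  let W := Set (k ⊕ ULift.{u} ℕ)
  let K := AlgebraicClosure (FractionRing (MvPolynomial W F))
  let c : F →+* K := (algebraMap (FractionRing (MvPolynomial W F)) K).comp
    ((algebraMap (MvPolynomial W F) (FractionRing (MvPolynomial W F))).comp MvPolynomial.C)
  refine ⟨K, inferInstance, inferInstance, c, exists_auto ?_⟩
  have h1 : #W ≤ #K := mk_le_of_injective
    (f := fun w => algebraMap (FractionRing (MvPolynomial W F)) K (algebraMap _ _ (MvPolynomial.X w : MvPolynomial W F)))
    ((algebraMap (FractionRing (MvPolynomial W F)) K).injective.comp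
      ((IsFractionRing.injective (MvPolynomial W F) (FractionRing (MvPolynomial W F))).comp MvPolynomial.X_injective))
  refine lt_of_lt_of_le ?_ h1
  refine max_lt (lt_of_le_of_lt ?_ (mk_lt_set _)) (lt_of_le_of_lt ?_ (mk_lt_set _))
  · exact mk_le_of_injective Sum.inl_injective
  · exact (by simp : ℵ₀ ≤ #(ULift.{u} ℕ)).trans (mk_le_of_injective Sum.inr_injective)

end Groth.L24.GrpdField
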