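import Groth.Agent.L24.GrpdField.Pull
import Groth.Agent.L24.GrpdField.Steinitz
import Mathlib.AlgebraicGeometry.ResidueField

/-!
Every arrow of a groupoid over a field lifts to a rational arrow over a big algebraically closed field.
-/

set_option autoImplicit false
set_option linter.style.haveILetI false
set_option backward.isDefEq.respectTransparency false
set_option backward.isDefEq.respectTransparency.types false
universe u

open CategoryTheory CategoryTheory.Limits AlgebraicGeometry

namespace Groth.L24.GrpdField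

theorem isIso_residueFieldMap_of_section {X Y T : Scheme.{u}} (ρ : T ⟶ X) (q : X ⟶ Y) [IsIso (ρ ≫ q)] (x : T) :
    IsIso (q.residueFieldMap (ρ x)) := by
  haveI hc : IsIso ((ρ ≫ q).residueFieldMap x) := inferInstance
  rw [Scheme.residueFieldMap_comp] at hc
  have hb := ConcreteCategory.bijective_of_isIso (q.residueFieldMap (ρ x) ≫ ρ.residueFieldMap x)
  rw [ConcreteCategory.isIso_iff_bijective]
  refine ⟨RingHom.injective _, fun y => ?_⟩
  obtain ⟨a, ha⟩ := hb.2 ((ρ.residueFieldMap x) y)
  exact ⟨a, (ρ.residueFieldMap x).hom.injective (by simpa using ha)⟩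

variable {S : Scheme.{u}} (G : Grpd.GroupoidScheme S) {k : Type u} [Field k]
  (eU : G.U ≅ Spec (CommRingCat.of k))

theorem exists_point (r : G.R) : ∃ (K : Type u) (_ : Field K) (_ : IsAlgClosed K) (_ : Algebra k K)
    (r' : ↥(pR' G (Spec.map (CommRingCat.ofHom (algebraMap k K)) ≫ eU.inv))),
      pA G (Spec.map (CommRingCat.ofHom (algebraMap k K)) ≫ eU.inv) r' = r ∧
      IsIso ((pS G (Spec.map (CommRingCat.ofHom (algebraMap k K)) ≫ eU.inv)).residueFieldMap r') ∧
      IsIso ((pT G (Spec.map (CommRingCat.ofHom (algebraMap k K)) ≫ eU.inv)).residueFieldMap r') := by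
  obtain ⟨φs, hφs⟩ := Spec.map_surjective (G.R.fromSpecResidueField r ≫ G.s ≫ eU.hom)
  obtain ⟨φt, hφt⟩ := Spec.map_surjective (G.R.fromSpecResidueField r ≫ G.t ≫ eU.hom)
  obtain ⟨K, iK, iA, c, hc⟩ := exists_big_algClosed k (G.R.residueField r)
  letI := iK; letI := iA
  letI : Algebra k K := (c.comp φt.hom).toAlgebra
  obtain ⟨σ, hσ⟩ := hc (c.comp φt.hom) (c.comp φs.hom)
  set g := Spec.map (CommRingCat.ofHom (algebraMap k K)) ≫ eU.inv
  let a : Spec (CommRingCat.of K) ⟶ G.R := Spec.map (CommRingCat.ofHom c) ≫ G.R.fromSpecResidueField r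
  let σ' : Spec (CommRingCat.of K) ⟶ Spec (CommRingCat.of K) := Spec.map σ.toCommRingCatIso.hom
  have hat : a ≫ G.t = 𝟙 _ ≫ g := by
    rw [← cancel_mono eU.hom]
    simp only [a, g, Category.id_comp, Category.assoc, Iso.inv_hom_id, Category.comp_id]
    rw [← hφt, ← Spec.map_comp]
    rfl
  have has : a ≫ G.s = σ' ≫ g := by
    rw [← cancel_mono eU.hom]
    simp only [a, g, σ', Category.assoc, Iso.inv_hom_id, Category.comp_id]
    rw [← hφs, ← Spec.map_comp, ← Spec.map_comp]
    congr 1
    ext x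
    exact (hσ x).symm
  let ρ := pMk (𝟙 _) a σ' hat has
  haveI : IsIso (ρ ≫ pT G g) := by rw [pMk_t]; infer_instance
  haveI : IsIso (ρ ≫ pS G g) := by rw [pMk_s]; infer_instance
  refine ⟨K, iK, iA, inferInstance, ρ (IsLocalRing.closedPoint K), ?_,
    isIso_residueFieldMap_of_section ρ _ _, isIso_residueFieldMap_of_section ρ _ _⟩
  show (ρ ≫ pA G g) (IsLocalRing.closedPoint K) = r
  rw [pMk_a, Scheme.Hom.comp_apply]
  exact Scheme.fromSpecResidueField_apply _ _

end Groth.L24.GrpdField
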