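import Groth.Prelude.Def_Grpd

/-!
The restriction of a groupoid scheme along an arbitrary morphism to the objects.
-/

set_option autoImplicit false
set_option backward.isDefEq.respectTransparency false
set_option backward.isDefEq.respectTransparency.types false
universe u

open CategoryTheory CategoryTheory.Limits AlgebraicGeometry

namespace Groth.L24.GrpdField

variable {S : Scheme.{u}} (G : Grpd.GroupoidScheme S) {U' : Scheme.{u}} (g : U' ⟶ G.U)

/-- The arrows `U' ×_{g,U,t} R ×_{s,U,g} U'`. -/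
noncomputable abbrev pR' : Scheme.{u} := pullback (pullback.snd g G.t ≫ G.s) g

/-- Target. -/
noncomputable def pT : pR' G g ⟶ U' := pullback.fst _ _ ≫ pullback.fst g G.t

/-- The underlying arrow. -/
noncomputable def pA : pR' G g ⟶ G.R := pullback.fst _ _ ≫ pullback.snd g G.t

/-- Source. -/
noncomputable def pS : pR' G g ⟶ U' := pullback.snd _ _

theorem pA_t : pA G g ≫ G.t = pT G g ≫ g := by
  simp only [pA, pT, Category.assoc, pullback.condition]

theorem pA_s : pA G g ≫ G.s = pS G g ≫ g := by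
  rw [pA, Category.assoc]; exact pullback.condition

theorem pR'_ext {T : Scheme.{u}} {a b : T ⟶ pR' G g} (h₁ : a ≫ pT G g = b ≫ pT G g)
    (h₂ : a ≫ pA G g = b ≫ pA G g) (h₃ : a ≫ pS G g = b ≫ pS G g) : a = b := by
  apply pullback.hom_ext
  · apply pullback.hom_ext
    · simpa [pT] using h₁
    · simpa [pA] using h₂
  · exact h₃

variable {G g} in
/-- A point of the arrows. -/
noncomputable def pMk {T : Scheme.{u}} (x : T ⟶ U') (a : T ⟶ G.R) (y : T ⟶ U')
    (hx : a ≫ G.t = x ≫ g) (hy : a ≫ G.s = y ≫ g) : T ⟶ pR' G g :=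
  pullback.lift (pullback.lift x a hx.symm) y (by rw [pullback.lift_snd_assoc, hy])

variable {G g} in
@[reassoc (attr := simp)]
theorem pMk_t {T : Scheme.{u}} (x : T ⟶ U') (a : T ⟶ G.R) (y : T ⟶ U')
    (hx : a ≫ G.t = x ≫ g) (hy : a ≫ G.s = y ≫ g) : pMk x a y hx hy ≫ pT G g = x := by
  rw [pMk, pT, pullback.lift_fst_assoc, pullback.lift_fst]

variable {G g} in
@[reassoc (attr := simp)]
theorem pMk_a {T : Scheme.{u}} (x : T ⟶ U') (a : T ⟶ G.R) (y : T ⟶ U')
    (hx : a ≫ G.t = x ≫ g) (hy : a ≫ G.s = y ≫ g) : pMk x a y hx hy ≫ pA G g = a := by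
  rw [pMk, pA, pullback.lift_fst_assoc, pullback.lift_snd]

variable {G g} in
@[reassoc (attr := simp)]
theorem pMk_s {T : Scheme.{u}} (x : T ⟶ U') (a : T ⟶ G.R) (y : T ⟶ U')
    (hx : a ≫ G.t = x ≫ g) (hy : a ≫ G.s = y ≫ g) : pMk x a y hx hy ≫ pS G g = y := by
  rw [pMk, pS, pullback.lift_snd]

theorem cond {T : Scheme.{u}} {α β : T ⟶ pR' G g} (h : α ≫ pS G g = β ≫ pT G g) :
    (α ≫ pA G g) ≫ G.s = (β ≫ pA G g) ≫ G.t := by
  rw [Category.assoc, Category.assoc, pA_s, pA_t, reassoc_of% h]

/-- Composition. -/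
noncomputable def pC : pullback (pS G g) (pT G g) ⟶ pR' G g :=
  pMk (pullback.fst _ _ ≫ pT G g)
    (pullback.lift (pullback.fst _ _ ≫ pA G g) (pullback.snd _ _ ≫ pA G g) (cond G g pullback.condition) ≫ G.c)
    (pullback.snd _ _ ≫ pS G g)
    (by rw [G.comp_t, Category.assoc, pA_t, Category.assoc])
    (by rw [G.comp_s, Category.assoc, pA_s, Category.assoc])

theorem lift_pC {T : Scheme.{u}} (α β : T ⟶ pR' G g) (h : α ≫ pS G g = β ≫ pT G g) :
    (pullback.lift α β h ≫ pC G g) ≫ pA G g =
      pullback.lift (α ≫ pA G g) (β ≫ pA G g) (cond G g h) ≫ G.c := by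
  rw [Category.assoc, pC, pMk_a, ← Category.assoc]
  congr 1
  apply pullback.hom_ext
  · rw [Category.assoc, pullback.lift_fst, pullback.lift_fst, pullback.lift_fst_assoc]
  · rw [Category.assoc, pullback.lift_snd, pullback.lift_snd, pullback.lift_snd_assoc]

theorem lift_pC_t {T : Scheme.{u}} (α β : T ⟶ pR' G g) (h : α ≫ pS G g = β ≫ pT G g) :
    (pullback.lift α β h ≫ pC G g) ≫ pT G g = α ≫ pT G g := by
  rw [Category.assoc, pC, pMk_t, pullback.lift_fst_assoc]

theorem lift_pC_s {T : Scheme.{u}} (α β : T ⟶ pR' G g) (h : α ≫ pS G g = β ≫ pT G g) :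
    (pullback.lift α β h ≫ pC G g) ≫ pS G g = β ≫ pS G g := by
  rw [Category.assoc, pC, pMk_s, pullback.lift_snd_assoc]

/-- The restriction of `G` along `g`. -/
noncomputable def pullGrpd : Grpd.GroupoidScheme S where
  U := U'
  R := pR' G g
  pU := g ≫ G.pU
  pR := pA G g ≫ G.pR
  s := pS G g
  t := pT G g
  e := pMk (𝟙 _) (g ≫ G.e) (𝟙 _) (by rw [Category.assoc, G.e_t, Category.comp_id, Category.id_comp])
    (by rw [Category.assoc, G.e_s, Category.comp_id, Category.id_comp])
  i := pMk (pS G g) (pA G g ≫ G.i) (pT G g) (by rw [Category.assoc, G.i_t, pA_s])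
    (by rw [Category.assoc, G.i_s, pA_t])
  c := pC G g
  s_over := by rw [← Category.assoc, ← pA_s, Category.assoc, G.s_over]
  t_over := by rw [← Category.assoc, ← pA_t, Category.assoc, G.t_over]
  comp_s α β h := lift_pC_s G g α β h
  comp_t α β h := lift_pC_t G g α β h
  assoc α β γ h₁ h₂ := by
    apply pR'_ext
    · simp only [lift_pC_t]
    · simp only [lift_pC]
      exact G.assoc _ _ _ (cond G g h₁) (cond G g h₂)
    · simp only [lift_pC_s]
  e_s := pMk_s _ _ _ _ _
  e_t := pMk_t _ _ _ _ _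
  comp_e α := by
    apply pR'_ext
    · rw [lift_pC_t]
    · rw [lift_pC]
      refine Eq.trans ?_ (G.comp_e (α ≫ pA G g))
      congr 1
      apply pullback.hom_ext
      · simp only [pullback.lift_fst]
      · simp only [pullback.lift_snd, Category.assoc, pMk_a]
        rw [← reassoc_of% (pA_s G g)]
    · rw [lift_pC_s]; simp only [Category.assoc, pMk_s, Category.comp_id]
  e_comp α := by
    apply pR'_ext
    · rw [lift_pC_t]; simp only [Category.assoc, pMk_t, Category.comp_id]
    · rw [lift_pC]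
      refine Eq.trans ?_ (G.e_comp (α ≫ pA G g))
      congr 1
      apply pullback.hom_ext
      · simp only [pullback.lift_fst, Category.assoc, pMk_a]
        rw [← reassoc_of% (pA_t G g)]
      · simp only [pullback.lift_snd]
    · rw [lift_pC_s]
  i_s := pMk_s _ _ _ _ _
  i_t := pMk_t _ _ _ _ _
  comp_i α := by
    apply pR'_ext
    · rw [lift_pC_t]; simp only [Category.assoc, pMk_t, Category.comp_id]
    · rw [lift_pC]
      simp only [Category.assoc, pMk_a]
      refine Eq.trans ?_ ((G.comp_i (α ≫ pA G g)).trans ?_)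
      · congr 1
      · simp only [Category.assoc]
        rw [← reassoc_of% (pA_t G g)]
    · rw [lift_pC_s]; simp only [Category.assoc, pMk_s, Category.comp_id]
  i_comp α := by
    apply pR'_ext
    · rw [lift_pC_t]; simp only [Category.assoc, pMk_t, Category.comp_id]
    · rw [lift_pC]
      simp only [Category.assoc, pMk_a]
      refine Eq.trans ?_ ((G.i_comp (α ≫ pA G g)).trans ?_)
      · congr 1
      · simp only [Category.assoc]
        rw [← reassoc_of% (pA_s G g)]
    · rw [lift_pC_s]; simp only [Category.assoc, pMk_s, Category.comp_id]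

end Groth.L24.GrpdField
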